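import Cfsg.Agent.Lib.BrauerTuan.Tensor
import Mathlib.RepresentationTheory.Irreducible

/-!
# All nonprincipal degrees of the block are `p ± 1` when there are two exceptional characters
-/

set_option autoImplicit false
set_option linter.style.haveILetI false
set_option linter.unusedSectionVars false

namespace CfsgLib.BrauerTuan

open Cfsg CfsgLib.Chars CfsgLib.Brauer43 Finset
open scoped ComplexConjugate

universe u

variable {G : Type u} [Group G] [Finite G] {p : ℕ} [Fact p.Prime] {P : Sylow p G}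
  {b d e t : ℕ} {εX : IrrCharacter G → ℤ} {X Y : Finset (IrrCharacter G)}
  {D : Neg P b d e t εX X Y} {f : ℕ} {θ θ' : IrrCharacter G}

/-- A character of degree two of an abelian group has norm at least two. -/
theorem two_le_inner_self {H : Type u} [Group H] [Fintype H] (hcomm : ∀ a c : H, a * c = c * a)
    {F : H → ℂ} (hF : IsCharacter H F) (h2 : F 1 = 2) {n : ℕ} (hn : classInner F F = n) :
    2 ≤ n := by
  by_contra! hlt
  rcases (show n = 0 ∨ n = 1 by omega) with rfl | rfl
  · rw [Nat.cast_zero, inner_self_eq_zero_iff] at hn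
    rw [hn] at h2
    exact two_ne_zero h2.symm
  · obtain ⟨r, ρ, rfl⟩ := hF
    haveI := (isIrreducible_iff_inner_self ρ).2 (by rw [hn, Nat.cast_one])
    haveI : IsMulCommutative H := ⟨⟨hcomm⟩⟩
    rw [Representation.char_one, Representation.IsIrreducible.finrank_eq_one_of_isMulCommutative ρ] at h2
    norm_num at h2

theorem Neg.p_mul_mult (D : Neg P b d e t εX X Y) [Fintype (P : Subgroup G)] (ψ : IrrCharacter G) :
    (p : ℂ) * (mult (P : Subgroup G) ψ : ℂ) = ∑ u : (P : Subgroup G), (ψ : G → ℂ) u := by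
  have h := sum_eq_mult (P : Subgroup G) ψ
  rw [finsum_eq_sum_of_fintype, D.card_P] at h
  exact h.symm

theorem Pair.mult_one (S : Pair D f θ θ') {H : Subgroup G}
    (hH : H ≤ Subgroup.normalizer ((P : Subgroup G) : Set G)) (hHc : Nat.card H = e)
    (hHP : ∀ h ∈ H, h ∈ (P : Subgroup G) → h = 1) :
    mult (P : Subgroup G) θ = 1 := by
  classical
  haveI := Fintype.ofFinite G
  haveI := Fintype.ofFinite H
  haveI := Fintype.ofFinite (P : Subgroup G)
  have hp : p.Prime := Fact.out
  have hsum : mult (P : Subgroup G) θ + mult (P : Subgroup G) θ' = 2 := by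
    have h : ((p * (mult (P : Subgroup G) θ + mult (P : Subgroup G) θ') : ℕ) : ℂ) = ((p * 2 : ℕ) : ℂ) := by
      rw [Nat.cast_mul, Nat.cast_add, mul_add, D.p_mul_mult, D.p_mul_mult,
        ← Finset.sum_add_distrib,
        ← Finset.add_sum_erase _ _ (Finset.mem_univ (1 : (P : Subgroup G))),
        Finset.sum_congr (s₁ := (Finset.univ : Finset ↥(P : Subgroup G)).erase 1) rfl
          fun u hu => S.sum_one (u : G) u.2 fun h => (Finset.mem_erase.1 hu).1 (Subtype.ext h),
        Finset.sum_const, Finset.card_erase_of_mem (Finset.mem_univ _), Finset.card_univ,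
        ← Nat.card_eq_fintype_card, OneMemClass.coe_one, S.deg, S.symm.deg, D.card_P,
        nsmul_eq_mul, mul_one, Nat.cast_sub hp.one_lt.le, S.p_eq, S.d_eq]
      push_cast; ring
    exact Nat.eq_of_mul_eq_mul_left hp.pos (Nat.cast_injective h)
  have hθ : IsCharacter H (fixChar (P : Subgroup G) H (θ : G → ℂ)) :=
    isCharacter_fixChar hH (isCharacter_of_irr θ.2)
  have hθ' : IsCharacter H (fixChar (P : Subgroup G) H (θ' : G → ℂ)) :=
    isCharacter_fixChar hH (isCharacter_of_irr θ'.2)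
  obtain ⟨k, hk⟩ := inner_char_nat hθ isCharacter_one
  obtain ⟨k', hk'⟩ := inner_char_nat hθ' isCharacter_one
  rw [inner_def, inv_mul_eq_iff_eq_mul₀ (card_ne_zero H), hHc] at hk hk'
  simp only [map_one, mul_one] at hk hk'
  rw [← Finset.add_sum_erase _ _ (Finset.mem_univ (1 : H)), fixChar_one_eq] at hk hk'
  have heq : ∑ h ∈ (Finset.univ : Finset H).erase 1, fixChar (P : Subgroup G) H (θ : G → ℂ) h =
      ∑ h ∈ (Finset.univ : Finset H).erase 1, fixChar (P : Subgroup G) H (θ' : G → ℂ) h :=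
    Finset.sum_congr rfl fun h hh => by
      have hh1 := (Finset.mem_erase.1 hh).1
      rw [D.fixChar_apply hH hHP (isClassFunction_irr θ) hh1,
        D.fixChar_apply hH hHP (isClassFunction_irr θ') hh1]
      have hreg : ¬ p ∣ orderOf (h : G) := fun hd => by
        have := Nat.le_of_dvd (by have := D.e_two; omega)
          (hd.trans (hHc ▸ Subgroup.orderOf_dvd_natCard H h.2))
        have := D.two_e; omega
      rw [D.rel θ ((S.mem θ).2 (Or.inl rfl)) h hreg, D.rel θ' ((S.mem θ').2 (Or.inr rfl)) h hreg]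
  have hdiff : (mult (P : Subgroup G) θ : ℤ) - mult (P : Subgroup G) θ' = e * ((k : ℤ) - k') := by
    have : (mult (P : Subgroup G) θ : ℂ) - mult (P : Subgroup G) θ' = e * ((k : ℂ) - k') := by
      linear_combination hk - hk' - heq
    exact_mod_cast this
  have hf := S.two_f
  have hf2 := S.f_two
  have he4 : (4 : ℤ) ≤ e := by omega
  rcases lt_trichotomy ((k : ℤ) - k') 0 with h | h | h
  · have := mul_le_mul_of_nonneg_left (show (k : ℤ) - k' ≤ -1 by omega) (Int.natCast_nonneg e)
    omega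
  · rw [h, mul_zero] at hdiff; omega
  · have := mul_le_mul_of_nonneg_left (show 1 ≤ (k : ℤ) - k' by omega) (Int.natCast_nonneg e)
    omega

theorem Pair.sq_apply (S : Pair D f θ θ') {H : Subgroup G}
    (hH : H ≤ Subgroup.normalizer ((P : Subgroup G) : Set G)) (hHc : Nat.card H = e)
    (hHP : ∀ h ∈ H, h ∈ (P : Subgroup G) → h = 1) {h : H} (hh : h ≠ 1) :
    (θ : G → ℂ) h * (θ : G → ℂ) h = 1 := by
  haveI := Fintype.ofFinite G
  have hθ : IsCharacter H (fixChar (P : Subgroup G) H (θ : G → ℂ)) :=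
    isCharacter_fixChar hH (isCharacter_of_irr θ.2)
  obtain ⟨lam, hlam⟩ := exists_hom_of_degree_one hθ (by
    rw [fixChar_one_eq, S.mult_one hH hHc hHP, Nat.cast_one])
  have h1 : (θ : G → ℂ) h = (lam h : ℂ) := by
    rw [← D.fixChar_apply hH hHP (isClassFunction_irr θ) hh, hlam]
  have hpow : (lam h : ℂ) ^ Nat.card H = 1 := by
    rw [← Units.val_pow_eq_pow_val, ← map_pow, pow_card_eq_one', map_one, Units.val_one]
  have hnorm : ‖(lam h : ℂ)‖ = 1 :=
    Complex.norm_eq_one_of_pow_eq_one hpow (Nat.card_pos (α := H)).ne'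
  conv_lhs => arg 2; rw [← S.real]
  rw [Complex.mul_conj, Complex.normSq_eq_norm_sq, h1, hnorm, one_pow, Complex.ofReal_one]

set_option maxHeartbeats 800000 in
theorem Pair.square_le_one (S : Pair D f θ θ') [Fintype G] [Fintype (IrrCharacter G)]
    [DecidableEq (IrrCharacter G)] {k : IrrCharacter G → ℕ}
    (hk : ∀ χ ∈ X.erase (principal G), (charDegree (χ : G → ℂ) : ℤ) = p + εX χ + 2 * p * k χ)
    {χ : IrrCharacter G} (hχ : χ ∈ X.erase (principal G)) :
    coeff (fun g => (θ : G → ℂ) g * (θ : G → ℂ) g) χ ≤ 1 := by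
  obtain ⟨hc0, -, -, hcs, -, -⟩ := S.square hk
  classical
  set φ := fun g => (θ : G → ℂ) g * (θ : G → ℂ) g with hφdef
  have hφ : IsCharacter G φ := isCharacter_mul (isCharacter_of_irr θ.2) (isCharacter_of_irr θ.2)
  rcases Nat.eq_zero_or_pos (coeff φ χ) with h0 | hpos
  · omega
  obtain ⟨hε, hkχ⟩ := hcs χ hχ hpos.ne'
  obtain ⟨H, hH, hHc, hHP, hcomm⟩ := D.exists_compl
  haveI := Fintype.ofFinite H
  haveI := Fintype.ofFinite (P : Subgroup G)
  have hp : p.Prime := Fact.out
  -- degrees on fixed points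
  have hFχ : fixChar (P : Subgroup G) H (χ : G → ℂ) 1 = 2 := by
    have h : ((p * mult (P : Subgroup G) χ : ℕ) : ℂ) = ((p * 2 : ℕ) : ℂ) := by
      have hd : (charDegree (χ : G → ℂ) : ℂ) = p + 1 := by
        have := hk χ hχ
        rw [hε, hkχ, Nat.cast_zero, mul_zero, add_zero] at this
        exact_mod_cast this
      rw [Nat.cast_mul, D.p_mul_mult,
        ← Finset.add_sum_erase _ _ (Finset.mem_univ (1 : (P : Subgroup G))),
        Finset.sum_congr (s₁ := (Finset.univ : Finset ↥(P : Subgroup G)).erase 1) rfl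
          fun u hu => D.val_X χ (Finset.mem_erase.1 hχ).2 (u : G) u.2
            fun h => (Finset.mem_erase.1 hu).1 (Subtype.ext h),
        Finset.sum_const, Finset.card_erase_of_mem (Finset.mem_univ _), Finset.card_univ,
        ← Nat.card_eq_fintype_card, OneMemClass.coe_one, CharApps.deg_eq, hd, hε, D.card_P,
        nsmul_eq_mul, Nat.cast_sub hp.one_lt.le]
      push_cast; ring
    rw [fixChar_one_eq, Nat.eq_of_mul_eq_mul_left hp.pos (Nat.cast_injective h), Nat.cast_ofNat]
  have hFφ : fixChar (P : Subgroup G) H φ 1 = 2 * (f : ℂ) + 1 := by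
    have hm := sum_eq_mult (P : Subgroup G) θ
    rw [finsum_eq_sum_of_fintype, ← Finset.add_sum_erase _ _ (Finset.mem_univ (1 : (P : Subgroup G))),
      OneMemClass.coe_one, S.deg, S.mult_one hH hHc hHP, Nat.cast_one, mul_one, D.card_P] at hm
    rw [fixChar, finsum_eq_sum_of_fintype, inv_mul_eq_iff_eq_mul₀ (card_ne_zero _), D.card_P]
    simp only [OneMemClass.coe_one, one_mul, φ]
    rw [← Finset.add_sum_erase _ _ (Finset.mem_univ (1 : (P : Subgroup G))), OneMemClass.coe_one,
      S.deg, Finset.sum_congr (s₁ := (Finset.univ : Finset ↥(P : Subgroup G)).erase 1) rfl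
        fun u hu => S.sq_eq (u := (u : G)) u.2 fun h => (Finset.mem_erase.1 hu).1 (Subtype.ext h),
      Finset.sum_add_distrib, Finset.sum_const, Finset.card_erase_of_mem (Finset.mem_univ _),
      Finset.card_univ, ← Nat.card_eq_fintype_card, D.card_P, nsmul_eq_mul,
      Nat.cast_sub hp.one_lt.le]
    have hpe : (p : ℂ) = 4 * f + 1 := by exact_mod_cast S.p_eq
    have hde : (d : ℂ) = 2 * f + 1 := by exact_mod_cast S.d_eq
    rw [hpe, hde] at hm ⊢
    push_cast
    linear_combination hm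
  -- the inner product
  set Fχ := fixChar (P : Subgroup G) H (χ : G → ℂ) with hFχdef
  have hFc : IsCharacter H Fχ := isCharacter_fixChar hH (isCharacter_of_irr χ.2)
  obtain ⟨k₁, hk₁⟩ := inner_char_nat isCharacter_one hFc
  have hin : classInner (fixChar (P : Subgroup G) H φ) Fχ = ((2 + k₁ : ℕ) : ℂ) := by
    rw [inner_def, inv_mul_eq_iff_eq_mul₀ (card_ne_zero H)] at hk₁ ⊢
    rw [← Finset.add_sum_erase _ _ (Finset.mem_univ (1 : H))] at hk₁ ⊢
    rw [Finset.sum_congr (s₁ := (Finset.univ : Finset ↥H).erase 1) rfl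
      (g := fun h => (1 : ℂ) * conj (Fχ h)) fun h hh => by
      rw [D.fixChar_apply hH hHP (isClassFunction_of_isCharacter hφ) (Finset.mem_erase.1 hh).1,
        show φ (h : G) = 1 from S.sq_apply hH hHc hHP (Finset.mem_erase.1 hh).1]]
    rw [hFφ, hFχ, map_ofNat]
    rw [hFχ, map_ofNat] at hk₁
    rw [hHc, S.two_f] at hk₁ ⊢
    push_cast at hk₁ ⊢
    linear_combination hk₁
  have hlin : fixChar (P : Subgroup G) H φ = fun h =>
      ∑ ψ : IrrCharacter G, (coeff φ ψ : ℂ) * fixChar (P : Subgroup G) H (ψ : G → ℂ) h := by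
    funext h
    rw [fixChar, finsum_eq_sum_of_fintype,
      Finset.sum_congr (s₁ := (Finset.univ : Finset ↥(P : Subgroup G))) rfl
        fun u _ => sum_coeff hφ ((h : G) * (u : G)), Finset.sum_comm, Finset.mul_sum]
    refine Finset.sum_congr rfl fun ψ _ => ?_
    rw [fixChar, finsum_eq_sum_of_fintype, ← Finset.mul_sum]
    ring
  choose n hn using fun ψ : IrrCharacter G =>
    inner_char_nat (isCharacter_fixChar (Q := (P : Subgroup G)) hH (isCharacter_of_irr ψ.2)) hFc
  have hsum : ∑ ψ : IrrCharacter G, coeff φ ψ * n ψ = 2 + k₁ := by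
    apply Nat.cast_injective (R := ℂ)
    rw [← hin, hlin, Nat.cast_sum, inner_def]
    simp only [Finset.sum_mul]
    rw [Finset.sum_comm, Finset.mul_sum]
    refine Finset.sum_congr rfl fun ψ _ => ?_
    rw [Nat.cast_mul, ← hn ψ, inner_def, Finset.mul_sum, Finset.mul_sum, Finset.mul_sum]
    exact Finset.sum_congr rfl fun h _ => by ring
  have hn1 : n (principal G) = k₁ := by
    apply Nat.cast_injective (R := ℂ)
    rw [← hn, ← hk₁]
    congr 1
    funext h
    rw [fixChar, finsum_eq_sum_of_fintype, Finset.sum_congr rfl (g := fun _ => (1 : ℂ))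
      fun u _ => principal_apply _, Finset.sum_const, Finset.card_univ, ← Nat.card_eq_fintype_card,
      nsmul_eq_mul, mul_one, inv_mul_cancel₀ (card_ne_zero _)]
  have hn2 := two_le_inner_self hcomm hFc hFχ (hn χ)
  have hle := Finset.sum_le_sum_of_subset (f := fun ψ => coeff φ ψ * n ψ)
    (Finset.subset_univ {principal G, χ})
  rw [Finset.sum_pair (Finset.mem_erase.1 hχ).1.symm, hsum, hc0, hn1, one_mul] at hle
  have := Nat.mul_le_mul_left (coeff φ χ) hn2
  omega

theorem Neg.degree_eq (D : Neg P b d e t εX X Y) (ht : t = 2) (he : e ≠ 2) :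
    ∀ χ ∈ X, εX χ = -1 → charDegree (χ : G → ℂ) = p - 1 := by
  classical
  haveI := Fintype.ofFinite G
  haveI := irrFintype G
  intro χ₀ hχ₀ hε₀
  have hχ₀' : χ₀ ∈ X.erase (principal G) := by
    refine Finset.mem_erase.2 ⟨fun h => ?_, hχ₀⟩
    rw [h, D.sign_one] at hε₀; omega
  obtain ⟨f, θ, θ', S⟩ := exists_pair D ht he
  choose! k hk using fun χ (hχ : χ ∈ X.erase (principal G)) =>
    D.exists_excess (Finset.mem_erase.1 hχ).2 (Finset.mem_erase.1 hχ).1
  obtain ⟨a0, aθ, aθ', as, asum, ao⟩ := S.cross hk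
  obtain ⟨b0, bθ, bθ', bs, bsum, bo⟩ := S.square hk
  obtain ⟨c0, cθ', cθ, cs, csum, co⟩ := S.symm.square hk
  have cle := fun χ hχ => S.symm.square_le_one hk (χ := χ) hχ
  have ble := fun χ hχ => S.square_le_one hk (χ := χ) hχ
  set φ := fun g => (θ : G → ℂ) g * (θ' : G → ℂ) g with hφd
  set φ₁ := fun g => (θ : G → ℂ) g * (θ : G → ℂ) g with hφ₁d
  set φ₂ := fun g => (θ' : G → ℂ) g * (θ' : G → ℂ) g with hφ₂d
  have hφ : IsCharacter G φ := isCharacter_mul (isCharacter_of_irr θ.2) (isCharacter_of_irr θ'.2)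
  have hφ₁ : IsCharacter G φ₁ := isCharacter_mul (isCharacter_of_irr θ.2) (isCharacter_of_irr θ.2)
  have hφ₂ : IsCharacter G φ₂ := isCharacter_mul (isCharacter_of_irr θ'.2) (isCharacter_of_irr θ'.2)
  have hinner : classInner φ φ = classInner φ₁ φ₂ := by
    rw [inner_def, inner_def]
    congr 1
    refine Finset.sum_congr rfl fun g _ => ?_
    simp only [φ, φ₁, φ₂, map_mul, S.real, S.real']
    ring
  have hnorm : ∑ χ : IrrCharacter G, coeff φ χ * coeff φ χ =
      ∑ χ : IrrCharacter G, coeff φ₁ χ * coeff φ₂ χ := by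
    apply Nat.cast_injective (R := ℂ)
    rw [Nat.cast_sum, Nat.cast_sum]
    refine Eq.trans ?_ ((inner_eq_sum (isClassFunction_of_isCharacter hφ) φ).symm.trans
      (hinner.trans ((inner_eq_sum (isClassFunction_of_isCharacter hφ₁) φ₂).trans ?_)))
    · exact Finset.sum_congr rfl fun χ _ => by rw [coeff_eq hφ χ, Nat.cast_mul, map_natCast]
    · exact Finset.sum_congr rfl fun χ _ => by
        rw [coeff_eq hφ₁ χ, coeff_eq hφ₂ χ, Nat.cast_mul, map_natCast]
  set L := ∑ χ ∈ X.erase (principal G), coeff φ χ * coeff φ χ with hL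
  have hLnorm : L + 1 ≤ 1 + (f - 1) + 1 := by
    have e1 : ∀ F : IrrCharacter G → ℕ, ∑ χ, F χ = F (principal G) +
        ∑ χ ∈ X.erase (principal G), F χ + (F θ + F θ') + ∑ χ ∈ (X ∪ Y)ᶜ, F χ := fun F => by
      apply Nat.cast_injective (R := ℂ)
      push_cast
      exact S.split fun χ => (F χ : ℂ)
    rw [e1, e1, a0, aθ, aθ', b0, bθ, bθ', c0, cθ] at hnorm
    simp only [mul_zero, zero_mul, zero_add, mul_one, add_zero, one_mul] at hnorm
    have e2 : 1 ≤ ∑ χ ∈ (X ∪ Y)ᶜ, coeff φ χ * coeff φ χ :=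
      ao ▸ Finset.sum_le_sum fun χ _ => Nat.le_mul_self _
    have e3 : ∑ χ ∈ (X ∪ Y)ᶜ, coeff φ₁ χ * coeff φ₂ χ ≤ 1 :=
      bo ▸ Finset.sum_le_sum fun χ hχ => (Nat.mul_le_mul_left _
        ((Finset.single_le_sum (fun ψ _ => Nat.zero_le (coeff φ₂ ψ)) hχ).trans co.le)).trans
          (mul_one _).le
    have e4 : ∑ χ ∈ X.erase (principal G), coeff φ₁ χ * coeff φ₂ χ ≤ f - 1 := by
      refine (Finset.sum_le_sum fun χ hχ =>
        (Nat.mul_le_mul_left _ (cle χ hχ)).trans (mul_one _).le).trans ?_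
      omega
    omega
  -- multiplicities in `θ θ'` are at most one
  have ale : ∀ χ ∈ X.erase (principal G), coeff φ χ ≤ 1 := fun χ hχ => by
    have h : L = ∑ χ ∈ X.erase (principal G), coeff φ χ := le_antisymm
      (by rw [asum]; have := S.f_two; omega) (Finset.sum_le_sum fun χ _ => Nat.le_mul_self _)
    have h2 := (Finset.sum_eq_sum_iff_of_le (fun ψ _ => Nat.le_mul_self (coeff φ ψ))).1 h.symm χ hχ
    by_contra! hlt
    have := Nat.mul_le_mul_right (coeff φ χ) hlt
    omega
  -- they exhaust the block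
  have hcard : ∀ c : IrrCharacter G → ℕ, (∀ χ ∈ X.erase (principal G), c χ ≤ 1) →
      ((X.erase (principal G)).filter fun χ => c χ ≠ 0).card =
        ∑ χ ∈ X.erase (principal G), c χ := fun c hc => by
    rw [Finset.card_filter]
    refine Finset.sum_congr rfl fun χ hχ => ?_
    have := hc χ hχ
    split_ifs <;> omega
  have hdis : Disjoint ((X.erase (principal G)).filter fun χ => coeff φ χ ≠ 0)
      ((X.erase (principal G)).filter fun χ => coeff φ₁ χ ≠ 0) := by
    rw [Finset.disjoint_left]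
    intro χ h1 h2
    rw [Finset.mem_filter] at h1 h2
    have := (as χ h1.1 h1.2).1
    have := (bs χ h2.1 h2.2).1
    omega
  have hall := Finset.eq_of_subset_of_card_le
    (Finset.union_subset (Finset.filter_subset (fun χ => coeff φ χ ≠ 0) (X.erase (principal G)))
      (Finset.filter_subset (fun χ => coeff φ₁ χ ≠ 0) _)) (by
      rw [Finset.card_union_of_disjoint hdis, hcard _ ale, hcard _ ble, asum,
        Finset.card_erase_of_mem D.principal_mem, D.card_X]
      have := S.two_f
      omega)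
  have hk₀ : k χ₀ = 0 := by
    have h := hall.symm ▸ hχ₀'
    rcases Finset.mem_union.1 h with h | h <;> rw [Finset.mem_filter] at h
    · exact (as χ₀ h.1 h.2).2
    · exact (bs χ₀ h.1 h.2).2
  have h := hk χ₀ hχ₀'
  rw [hε₀, hk₀] at h
  have := (Fact.out : p.Prime).one_lt
  omega

end CfsgLib.BrauerTuan
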