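import Cfsg.Agent.Lib.BrauerTuan.TwoCentral
import Mathlib.GroupTheory.SchurZassenhaus

/-!
# Characters on the points fixed by the Sylow subgroup
-/

set_option autoImplicit false
set_option linter.style.haveILetI false
set_option linter.unusedSectionVars false

namespace CfsgLib.BrauerTuan

open Cfsg CfsgLib.Chars CfsgLib.Brauer43 Finset
open scoped ComplexConjugate

universe u

variable {G : Type u} [Group G] [Finite G]

/-- The character of `H` on the points fixed by `Q`. -/
noncomputable def fixChar (Q H : Subgroup G) (φ : G → ℂ) (h : H) : ℂ :=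
  (Nat.card Q : ℂ)⁻¹ * ∑ᶠ u : Q, φ ((h : G) * u)

theorem isCharacter_fixChar {Q H : Subgroup G} (hH : H ≤ Subgroup.normalizer (Q : Set G))
    {φ : G → ℂ} (hφ : IsCharacter G φ) : IsCharacter H (fixChar Q H φ) := by
  classical
  obtain ⟨n, ρ, rfl⟩ := hφ
  haveI := Fintype.ofFinite Q
  haveI := Fintype.ofFinite H
  let E : Module.End ℂ (Fin n → ℂ) := (Nat.card Q : ℂ)⁻¹ • ∑ u : Q, ρ (u : G)
  have hcomm : ∀ h : H, ρ (h : G) * E = E * ρ (h : G) := by
    intro h
    simp only [E, smul_mul_assoc, mul_smul_comm, Finset.sum_mul, Finset.mul_sum, ← map_mul]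
    congr 1
    have hN := Subgroup.mem_normalizer_iff.1 (hH h.2)
    refine Fintype.sum_equiv
      { toFun := fun u : ↥Q => (⟨(h : G) * u * (h : G)⁻¹, (hN u).1 u.2⟩ : ↥Q)
        invFun := fun u : ↥Q => ⟨(h : G)⁻¹ * u * h, by
          have := (hN ((h : G)⁻¹ * u * h)).2 (by
            rw [show (h : G) * ((h : G)⁻¹ * u * h) * (h : G)⁻¹ = u by group]; exact u.2)
          exact this⟩
        left_inv := fun u => Subtype.ext (by group)
        right_inv := fun u => Subtype.ext (by group) } _ _ fun u => ?_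
    show ρ ((h : G) * u) = ρ ((h : G) * u * (h : G)⁻¹ * h)
    rw [inv_mul_cancel_right]
  have hidem : ∀ v, E (E v) = E v := by
    intro v
    have hu : ∀ u : Q, ρ (u : G) * E = E := fun u => by
      simp only [E, mul_smul_comm, Finset.mul_sum, ← map_mul]
      congr 1
      exact Fintype.sum_equiv (Equiv.mulLeft u) _ _ fun w => rfl
    rw [← Module.End.mul_apply]
    conv_lhs => enter [1, 1]; simp only [E]
    simp only [smul_mul_assoc, Finset.sum_mul, hu, Finset.sum_const, Finset.card_univ,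
      ← Nat.card_eq_fintype_card, ← Nat.cast_smul_eq_nsmul ℂ, smul_smul,
      inv_mul_cancel₀ (card_ne_zero Q), one_smul]
  let W := LinearMap.range E
  have hW : ∀ (h : H), ∀ w ∈ W, ρ (h : G) w ∈ W := by
    rintro h _ ⟨v, rfl⟩
    exact ⟨ρ (h : G) v, by rw [← Module.End.mul_apply, ← hcomm, Module.End.mul_apply]⟩
  let σ : Representation ℂ H W :=
    { toFun := fun h => (ρ (h : G)).restrict (hW h)
      map_one' := LinearMap.ext fun v => Subtype.ext (LinearMap.congr_fun (map_one ρ) _)
      map_mul' := fun g g' => LinearMap.ext fun v =>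
        Subtype.ext (LinearMap.congr_fun (map_mul ρ (g : G) g') _) }
  convert isCharacter_character σ using 1
  funext h
  have hmem : ∀ v, (ρ (h : G) * E) v ∈ W := fun v => by
    rw [Module.End.mul_apply]; exact hW h _ ⟨v, rfl⟩
  have htr := LinearMap.trace_restrict_eq_of_forall_mem W (ρ (h : G) * E) hmem
  have hres : (ρ (h : G) * E).restrict (fun v _ => hmem v) = σ h := by
    refine LinearMap.ext fun w => Subtype.ext ?_
    obtain ⟨_, v, rfl⟩ := w
    show ρ (h : G) (E (E v)) = ρ (h : G) (E v)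
    rw [hidem]
  rw [hres] at htr
  show _ = LinearMap.trace ℂ W (σ h)
  rw [htr, fixChar, finsum_eq_sum_of_fintype]
  simp only [E, mul_smul_comm, Finset.mul_sum, ← map_mul, map_smul, map_sum, smul_eq_mul]
  rfl

theorem fixChar_one_eq (Q H : Subgroup G) (χ : IrrCharacter G) :
    fixChar Q H (χ : G → ℂ) 1 = (mult Q χ : ℂ) := by
  rw [fixChar, ← inv_mul_cancel_left₀ (card_ne_zero Q) (mult Q χ : ℂ), ← sum_eq_mult]
  simp only [OneMemClass.coe_one, one_mul]

variable {p : ℕ} [Fact p.Prime] {P : Sylow p G}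
  {b d e t : ℕ} {εX : IrrCharacter G → ℤ} {X Y : Finset (IrrCharacter G)}

/-- A complement of `P` in its normalizer. -/
theorem Neg.exists_compl (D : Neg P b d e t εX X Y) :
    ∃ H : Subgroup G, H ≤ Subgroup.normalizer ((P : Subgroup G) : Set G) ∧ Nat.card H = e ∧
      (∀ h ∈ H, h ∈ (P : Subgroup G) → h = 1) ∧ ∀ a c : H, a * c = c * a := by
  classical
  have hp : p.Prime := Fact.out
  set N := Subgroup.normalizer ((P : Subgroup G) : Set G) with hN
  have hPN : (P : Subgroup G) ≤ N := Subgroup.le_normalizer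
  set P' := (P : Subgroup G).subgroupOf N with hP'
  haveI : P'.Normal := Subgroup.normal_in_normalizer
  have hP'c : Nat.card P' = p :=
    (Nat.card_congr (Subgroup.subgroupOfEquivOfLe hPN).toEquiv).trans D.card_P
  have hidx : P'.index = e := by
    have h := P'.card_mul_index
    rw [hP'c, D.card_N] at h
    exact Nat.eq_of_mul_eq_mul_left hp.pos h
  obtain ⟨K, hK⟩ := Subgroup.exists_right_complement'_of_coprime (N := P') (by
    rw [hP'c, hidx]
    refine hp.coprime_iff_not_dvd.2 fun h => ?_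
    have := Nat.le_of_dvd (by have := D.e_two; omega) h
    have := D.two_e; omega)
  have hKc : Nat.card K = e := by rw [← hidx, ← hK.symm.index_eq_card]
  refine ⟨K.map N.subtype, ?_, ?_, ?_, ?_⟩
  · rintro _ ⟨k, -, rfl⟩; exact k.2
  · rw [Subgroup.card_map_of_injective N.subtype_injective, hKc]
  · rintro _ ⟨k, hk, rfl⟩ hkP
    have h1 : k ∈ P' ⊓ K := ⟨hkP, hk⟩
    rw [hK.disjoint.eq_bot] at h1
    rw [Subgroup.mem_bot.1 h1]; rfl
  · rintro ⟨_, a, ha, rfl⟩ ⟨_, c, hc, rfl⟩
    have hcom : a * c * a⁻¹ * c⁻¹ = 1 := by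
      have hmem : a * c * a⁻¹ * c⁻¹ ∈ K := by
        exact mul_mem (mul_mem (mul_mem ha hc) (inv_mem ha)) (inv_mem hc)
      have hker : a * c * a⁻¹ * c⁻¹ ∈ P' := by
        haveI : IsCyclic (P : Subgroup G) := isCyclic_of_prime_card D.card_P
        haveI : Fact (Nat.card (P : Subgroup G)).Prime := ⟨by rw [D.card_P]; exact hp⟩
        haveI : IsCyclic (MulAut (P : Subgroup G)) :=
          isCyclic_of_surjective (IsCyclic.mulAutMulEquiv (P : Subgroup G)).symm.toMonoidHom
            (IsCyclic.mulAutMulEquiv (P : Subgroup G)).symm.surjective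
        letI : CommGroup (MulAut (P : Subgroup G)) := IsCyclic.commGroup
        set φ := (P : Subgroup G).normalizerMonoidHom
        have h1 : a * c * a⁻¹ * c⁻¹ ∈ φ.ker := by
          rw [MonoidHom.mem_ker, map_mul, map_mul, map_mul, map_inv, map_inv, mul_inv_cancel_comm,
            mul_inv_cancel]
        rw [Subgroup.normalizerMonoidHom_ker, Subgroup.mem_subgroupOf] at h1
        obtain ⟨x, hx, hx1⟩ := D.exists_x
        show ((a * c * a⁻¹ * c⁻¹ : N) : G) ∈ (P : Subgroup G)
        rw [← D.cent x hx hx1, centralizer_singleton_eq D.card_P hx hx1]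
        exact h1
      have h2 : a * c * a⁻¹ * c⁻¹ ∈ P' ⊓ K := ⟨hker, hmem⟩
      rwa [hK.disjoint.eq_bot, Subgroup.mem_bot] at h2
    refine Subtype.ext ?_
    show ((a : G) * c) = c * a
    exact congrArg Subtype.val (mul_inv_eq_iff_eq_mul.1 (mul_inv_eq_one.1 hcom))

theorem Neg.conj_translate (D : Neg P b d e t εX X Y) {h : G}
    (hN : h ∈ Subgroup.normalizer ((P : Subgroup G) : Set G)) (hP : h ∉ (P : Subgroup G))
    {u : G} (hu : u ∈ (P : Subgroup G)) :
    ∃ v ∈ (P : Subgroup G), v * h * v⁻¹ = u * h := by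
  let f : ↥(P : Subgroup G) → ↥(P : Subgroup G) := fun v =>
    ⟨(v : G) * (h * (v : G)⁻¹ * h⁻¹),
      mul_mem v.2 ((Subgroup.mem_normalizer_iff.1 hN _).1 (inv_mem v.2))⟩
  have hinj : Function.Injective f := by
    intro v w hvw
    have h1 : (v : G) * h * (v : G)⁻¹ = w * h * (w : G)⁻¹ := by
      have := congrArg (· * h) (congrArg Subtype.val hvw)
      simpa [f, mul_assoc] using this
    by_contra hne
    have hz : (w : G)⁻¹ * v ∈ (P : Subgroup G) := mul_mem (inv_mem w.2) v.2
    have hz1 : (w : G)⁻¹ * v ≠ 1 := fun e' => hne (Subtype.ext (inv_mul_eq_one.1 e').symm)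
    refine hP ?_
    rw [← D.cent _ hz hz1, Subgroup.mem_centralizer_singleton_iff]
    calc h * ((w : G)⁻¹ * v) = (w : G)⁻¹ * (w * h * (w : G)⁻¹) * v := by group
      _ = _ := by rw [← h1]; group
  obtain ⟨v, hv⟩ := Finite.injective_iff_surjective.1 hinj ⟨u, hu⟩
  refine ⟨v, v.2, ?_⟩
  have h1 : (v : G) * (h * (v : G)⁻¹ * h⁻¹) = u := congrArg Subtype.val hv
  rw [← h1]; group

/-- Away from `P` the fixed-point character agrees with the character. -/
theorem Neg.fixChar_apply (D : Neg P b d e t εX X Y) {H : Subgroup G}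
    (hH : H ≤ Subgroup.normalizer ((P : Subgroup G) : Set G))
    (hHP : ∀ h ∈ H, h ∈ (P : Subgroup G) → h = 1) {φ : G → ℂ} (hφ : IsClassFunction G φ)
    {h : H} (hh : h ≠ 1) : fixChar (P : Subgroup G) H φ h = φ h := by
  haveI := Fintype.ofFinite (P : Subgroup G)
  have hN := hH h.2
  have hP : (h : G) ∉ (P : Subgroup G) := fun hm => hh (Subtype.ext (hHP h h.2 hm))
  rw [fixChar, finsum_eq_sum_of_fintype, Finset.sum_congr rfl (g := fun _ => φ h) fun u _ => ?_,
    Finset.sum_const, Finset.card_univ, ← Nat.card_eq_fintype_card, nsmul_eq_mul,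
    inv_mul_cancel_left₀ (card_ne_zero _)]
  obtain ⟨v, -, hv⟩ := D.conj_translate hN hP ((Subgroup.mem_normalizer_iff.1 hN u).1 u.2)
  rw [show (h : G) * (u : G) = h * (u : G) * (h : G)⁻¹ * h by group, ← hv]
  exact hφ h v

/-- An element of the complement inverts `P`. -/
theorem Neg.val_inv (D : Neg P b d e t εX X Y) {φ : G → ℂ} (hφ : IsClassFunction G φ) {u : G}
    (hu : u ∈ (P : Subgroup G)) : φ u⁻¹ = φ u := by
  haveI : Fact (Nat.Prime 2) := ⟨Nat.prime_two⟩
  haveI := Fintype.ofFinite G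
  obtain ⟨H, hH, hHc, hHP, -⟩ := D.exists_compl
  haveI := Fintype.ofFinite H
  obtain ⟨h, hh⟩ := exists_prime_orderOf_dvd_card' (G := H) 2 (by
    rw [hHc]
    obtain ⟨j, -, hj⟩ := (Nat.dvd_prime_pow Nat.prime_two).1 D.e_dvd
    rw [hj]
    refine dvd_pow_self _ fun h0 => ?_
    rw [h0, pow_zero] at hj
    have := D.e_two; omega)
  rw [← Subgroup.orderOf_coe] at hh
  have hh2 : (h : G) * h = 1 := by rw [← pow_two, ← hh]; exact pow_orderOf_eq_one _
  have hhi : (h : G)⁻¹ = h := inv_eq_of_mul_eq_one_right hh2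
  set v := (h : G) * u * (h : G)⁻¹ with hv
  have hvP : v ∈ (P : Subgroup G) := (Subgroup.mem_normalizer_iff.1 (hH h.2) u).1 hu
  have hy : u * v = 1 := by
    by_contra hne
    have hm : (h : G) ∈ (P : Subgroup G) := by
      rw [← D.cent _ (mul_mem hu hvP) hne, Subgroup.mem_centralizer_singleton_iff]
      have hc : u * v = v * u := Blocks.comm_of_prime_card D.card_P u hu v hvP
      calc (h : G) * (u * v) = (h * u * (h : G)⁻¹) * ((h * h) * u * (h : G)⁻¹) := by
            rw [hv]; group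
        _ = v * (u * h) := by rw [hh2, one_mul, hhi, hv, hhi]
        _ = (v * u) * h := (mul_assoc _ _ _).symm
        _ = _ := by rw [hc]
    have := hHP h h.2 hm
    rw [this, orderOf_one] at hh
    omega
  rw [← eq_inv_of_mul_eq_one_right hy]
  exact hφ u h

end CfsgLib.BrauerTuan
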