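import Cfsg.Agent.Lib.Brauer43.Main
import Cfsg.Agent.S4504

/-!
# Simple groups of order `p q ^ b g₀` with `g₀ < p - 1`: the degrees
-/

set_option autoImplicit false
set_option linter.style.haveILetI false
set_option linter.unusedSectionVars false

namespace CfsgLib.BrauerTuan

open Cfsg CfsgLib.Chars CfsgLib.Brauer43 Finset
open scoped ComplexConjugate

universe u

variable {G : Type u} [Group G] [Finite G] {p : ℕ} [Fact p.Prime]

/-- The case in which the exceptional characters have degree `p - e`. -/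
structure Neg (P : Sylow p G) (b d e t : ℕ) (εX : IrrCharacter G → ℤ)
    (X Y : Finset (IrrCharacter G)) : Prop where
  e_two : 2 ≤ e
  t_two : 2 ≤ t
  et : e * t + 1 = p
  de : d + e = p
  d_odd : Odd d
  e_dvd : e ∣ 2 ^ b
  card_P : Nat.card (P : Subgroup G) = p
  card_G : Nat.card G = p * 2 ^ b * d
  card_N : Nat.card (Subgroup.normalizer ((P : Subgroup G) : Set G)) = p * e
  cent : ∀ x ∈ (P : Subgroup G), x ≠ 1 → Subgroup.centralizer ({x} : Set G) = (P : Subgroup G)
  principal_mem : principal G ∈ X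
  sign_one : εX (principal G) = 1
  disj : Disjoint X Y
  card_X : X.card = e
  card_Y : Y.card = t
  sign : ∀ χ ∈ X, εX χ = 1 ∨ εX χ = -1
  val_X : ∀ χ ∈ X, ∀ x ∈ (P : Subgroup G), x ≠ 1 → (χ : G → ℂ) x = (εX χ : ℂ)
  mod_X : ∀ χ ∈ X, (charDegree (χ : G → ℂ) : ℤ) ≡ εX χ [ZMOD p]
  even_X : ∀ χ ∈ X, χ ≠ principal G → 2 ∣ charDegree (χ : G → ℂ)
  dvd_X : ∀ χ ∈ X, charDegree (χ : G → ℂ) ∣ 2 ^ b * d
  deg_Y : ∀ θ ∈ Y, charDegree (θ : G → ℂ) = d
  rel : ∀ θ ∈ Y, ∀ g : G, ¬ p ∣ orderOf g →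
    (θ : G → ℂ) g = -∑ χ ∈ X, (εX χ : ℂ) * (χ : G → ℂ) g
  sum_Y : ∀ x ∈ (P : Subgroup G), x ≠ 1 → ∑ θ ∈ Y, (θ : G → ℂ) x = 1
  norm_Y : ∀ x ∈ (P : Subgroup G), x ≠ 1 →
    ∑ θ ∈ Y, (θ : G → ℂ) x * conj ((θ : G → ℂ) x) = (p : ℂ) - e
  vanish : ∀ χ : IrrCharacter G, χ ∉ X → χ ∉ Y → ∀ x ∈ (P : Subgroup G), x ≠ 1 →
    (χ : G → ℂ) x = 0

theorem perfect_of_simple [IsSimpleGroup G] (hnc : ¬ IsCyclic G) : commutator G = ⊤ := by
  refine (IsSimpleGroup.eq_bot_or_eq_top_of_normal _ inferInstance).resolve_left fun h => hnc ?_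
  have hc : ∀ a b : G, a * b = b * a := fun a b => by
    rw [← commutatorElement_eq_one_iff_mul_comm, ← Subgroup.mem_bot, ← h, commutator_def]
    exact Subgroup.commutator_mem_commutator (Subgroup.mem_top a) (Subgroup.mem_top b)
  letI : CommGroup G := { ‹Group G› with mul_comm := hc }
  exact IsSimpleGroup.isCyclic

/-- A faithful block constituent of degree below `p` forces `C(P) = P`. -/
theorem eq_one_of_regular_centralizing {P : Sylow p G} (hP : Nat.card (P : Subgroup G) = p)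
    {εX : IrrCharacter G → ℤ} {ε : ℤ} {X : Finset (IrrCharacter G)} (hε : ε = 1 ∨ ε = -1)
    (hX : ∀ χ ∈ X, (εX χ = 1 ∨ εX χ = -1) ∧ (charDegree (χ : G → ℂ) : ℤ) ≡ εX χ [ZMOD p] ∧
      ∀ x : G, x ∈ (P : Subgroup G) → x ≠ 1 → ∀ y : G,
        y ∈ Subgroup.centralizer ((P : Subgroup G) : Set G) → ¬ p ∣ orderOf y →
          (χ : G → ℂ) (x * y) = (εX χ : ℂ))
    {θ : IrrCharacter G}
    (hrel : ∀ g : G, ¬ p ∣ orderOf g →
      (ε : ℂ) * (θ : G → ℂ) g = ∑ χ ∈ X, (εX χ : ℂ) * (χ : G → ℂ) g)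
    (hd : charDegree (θ : G → ℂ) < p)
    (hf : ∀ g : G, (θ : G → ℂ) g = (θ : G → ℂ) 1 → g = 1)
    {y : G} (hy : y ∈ Subgroup.centralizer ((P : Subgroup G) : Set G)) (hyp : ¬ p ∣ orderOf y) :
    y = 1 := by
  classical
  haveI := Fintype.ofFinite G
  have hp : p.Prime := Fact.out
  set H := Subgroup.zpowers y with hH
  haveI := Fintype.ofFinite H
  haveI := Fintype.ofFinite (P : Subgroup G)
  have hHC : ∀ h ∈ H, h ∈ Subgroup.centralizer ((P : Subgroup G) : Set G) := fun h hh =>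
    (Subgroup.zpowers_le.2 hy) hh
  have hHreg : ∀ h ∈ H, ¬ p ∣ orderOf h := fun h hh hdvd =>
    hyp (hdvd.trans (orderOf_dvd_of_mem_zpowers hh))
  have hcomm : ∀ (v : (P : Subgroup G)) (h : H), Commute (v : G) (h : G) := fun v h =>
    Subgroup.mem_centralizer_iff.1 (hHC h h.2) v v.2
  let φ : ↥(P : Subgroup G) × ↥H →* G :=
    (P : Subgroup G).subtype.noncommCoprod H.subtype hcomm
  have hφ : ∀ (v : ↥(P : Subgroup G)) (h : ↥H), φ (v, h) = (v : G) * h := fun v h => rfl
  -- multiplicities modulo `p`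
  have hk : ∀ χ ∈ X, (mult H χ : ℤ) ≡ εX χ [ZMOD p] := by
    intro χ hχ
    obtain ⟨r, hr⟩ := inner_char_nat (G := ↥(P : Subgroup G) × ↥H)
      (isCharacter_comp φ (isCharacter_of_irr χ.2)) isCharacter_one
    rw [inner_def, inv_mul_eq_iff_eq_mul₀ (card_ne_zero _), Nat.card_prod, hP,
      Fintype.sum_prod_type] at hr
    simp only [map_one, mul_one, hφ] at hr
    rw [← Finset.add_sum_erase _ _ (Finset.mem_univ (1 : (P : Subgroup G))),
      Finset.sum_congr (s₁ := (Finset.univ : Finset ↥(P : Subgroup G)).erase 1) rfl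
        (g := fun _ => (Nat.card H : ℂ) * (εX χ : ℂ)) fun v hv => by
        rw [Finset.sum_congr (s₁ := (Finset.univ : Finset ↥H)) rfl
          (g := fun _ => (εX χ : ℂ)) fun h _ =>
          (hX χ hχ).2.2 (v : G) v.2 (fun e => (Finset.mem_erase.1 hv).1 (Subtype.ext e)) (h : G)
            (hHC h h.2) (hHreg h h.2), Finset.sum_const, Finset.card_univ,
          ← Nat.card_eq_fintype_card, nsmul_eq_mul],
      Finset.sum_const, Finset.card_erase_of_mem (Finset.mem_univ _), Finset.card_univ,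
      ← Nat.card_eq_fintype_card, hP, nsmul_eq_mul] at hr
    have h1 : ∑ h : H, (χ : G → ℂ) (((1 : ↥(P : Subgroup G)) : G) * h) =
        (Nat.card H : ℂ) * mult H χ := by
      rw [← sum_eq_mult H χ, finsum_eq_sum_of_fintype]
      exact Finset.sum_congr rfl fun h _ => by simp
    rw [h1, Nat.cast_sub hp.one_lt.le] at hr
    have h2 : (mult H χ : ℂ) + ((p : ℂ) - 1) * εX χ = (p : ℂ) * r :=
      mul_left_cancel₀ (card_ne_zero H) (by push_cast at hr ⊢; linear_combination hr)
    have h3 : (mult H χ : ℤ) + ((p : ℤ) - 1) * εX χ = (p : ℤ) * r := by exact_mod_cast h2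
    exact Int.modEq_iff_dvd.2 ⟨εX χ - r, by linear_combination -h3⟩
  have hkθ : (ε : ℂ) * mult H θ = ∑ χ ∈ X, (εX χ : ℂ) * mult H χ := by
    refine mul_left_cancel₀ (card_ne_zero H) ?_
    rw [mul_left_comm, ← sum_eq_mult H θ, finsum_eq_sum_of_fintype, Finset.mul_sum, Finset.mul_sum,
      Finset.sum_congr (s₁ := (Finset.univ : Finset ↥H)) rfl
        fun h _ => hrel (h : G) (hHreg h h.2), Finset.sum_comm]
    refine Finset.sum_congr rfl fun χ _ => ?_
    rw [mul_left_comm, ← sum_eq_mult H χ, finsum_eq_sum_of_fintype, Finset.mul_sum]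
  have h1 : ¬ p ∣ orderOf (1 : G) := by simp [hp.ne_one]
  have hdθ : (ε : ℂ) * (charDegree (θ : G → ℂ) : ℂ) =
      ∑ χ ∈ X, (εX χ : ℂ) * (charDegree (χ : G → ℂ) : ℂ) := by
    simpa only [CharApps.deg_eq] using hrel 1 h1
  have hmod : (mult H θ : ℤ) ≡ (charDegree (θ : G → ℂ) : ℤ) [ZMOD p] := by
    have e1 : ε * (mult H θ : ℤ) = ∑ χ ∈ X, εX χ * (mult H χ : ℤ) := by exact_mod_cast hkθ
    have e2 : ε * (charDegree (θ : G → ℂ) : ℤ) = ∑ χ ∈ X, εX χ * (charDegree (χ : G → ℂ) : ℤ) := by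
      exact_mod_cast hdθ
    have e3 : ε * (mult H θ : ℤ) ≡ ε * (charDegree (θ : G → ℂ) : ℤ) [ZMOD p] := by
      rw [e1, e2]
      rw [Int.modEq_iff_dvd, ← Finset.sum_sub_distrib]
      refine Finset.dvd_sum fun χ hχ => ?_
      rw [← mul_sub]
      exact dvd_mul_of_dvd_right ((hk χ hχ).trans (hX χ hχ).2.1.symm).dvd _
    rcases hε with rfl | rfl
    · simpa using e3
    · simpa using e3.neg
  have hle := mult_le_degree H θ
  have heq : mult H θ = charDegree (θ : G → ℂ) :=
    Nat.ModEq.eq_of_lt_of_lt (Int.natCast_modEq_iff.1 hmod) (by omega) hd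
  have hbot : mult (⊥ : Subgroup G) θ = charDegree (θ : G → ℂ) := eq_mult (by
    rw [finsum_unique, Subgroup.card_bot]
    simp [Subgroup.coe_bot, CharApps.deg_eq, Subsingleton.elim (default : (⊥ : Subgroup G)) 1])
  have hval := sum_coset_of_mult_eq (bot_le : ⊥ ≤ H) (χ := θ) (heq.trans hbot.symm)
    (Subgroup.mem_zpowers y)
  rw [finsum_unique, Subgroup.card_bot, hbot, Nat.cast_one, one_mul,
    Subsingleton.elim (default : (⊥ : Subgroup G)) 1, OneMemClass.coe_one, mul_one,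
    ← CharApps.deg_eq] at hval
  exact hf y hval

set_option maxHeartbeats 800000 in
theorem pos_or_neg [IsSimpleGroup G] (hnc : ¬ IsCyclic G) {q b g₀ : ℕ} (hq : q.Prime) (hpq : p ≠ q)
    (hG : Nat.card G = p * q ^ b * g₀) (hg : g₀ < p - 1) :
    (∃ d, 2 * d + 1 = p ∧ g₀ = d ∧
      Nonempty (G ≃* Matrix.ProjectiveSpecialLinearGroup (Fin 2) (ZMod p))) ∨
    (q = 2 ∧ ∃ (P : Sylow p G) (d e t : ℕ) (εX : IrrCharacter G → ℤ)
      (X Y : Finset (IrrCharacter G)), g₀ = d ∧ Neg P b d e t εX X Y) := by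
  classical
  haveI := Fintype.ofFinite G
  haveI := irrFintype G
  have hp : p.Prime := Fact.out
  have hperf := perfect_of_simple (G := G) hnc
  have hg0 : g₀ ≠ 0 := by rintro rfl; rw [mul_zero] at hG; exact Nat.card_pos.ne' hG
  have hndvd : ¬ p ∣ q ^ b * g₀ := fun h => by
    rcases hp.dvd_mul.1 h with h | h
    · exact hpq ((Nat.prime_dvd_prime_iff_eq hp hq).1 (hp.dvd_of_dvd_pow h))
    · have := Nat.le_of_dvd (Nat.pos_of_ne_zero hg0) h; omega
  obtain ⟨P⟩ : Nonempty (Sylow p G) := inferInstance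
  have hP : Nat.card (P : Subgroup G) = p := by
    simpa using CfsgLib.Small.card_sylow_eq (p := p) 1 (q ^ b * g₀)
      (by rw [hG, pow_one, mul_assoc]) hndvd P
  obtain ⟨X, Y, εX, ε, hpX, hε1, hXY, hXc, hYc, hε, hX, hY, hrel, hsumY, hnorm⟩ :=
    exists_block_data (P := P) hperf hP
  have he2 := two_le_autIndex (P := P) hperf hP
  obtain ⟨e, he⟩ : ∃ e, e = autIndex P := ⟨_, rfl⟩
  rw [← he] at he2 hXc hYc hY
  obtain ⟨t, ht⟩ : ∃ t, t = Y.card := ⟨_, rfl⟩
  rw [← ht] at hYc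
  have ht1 : 1 ≤ t := Nat.pos_of_ne_zero fun h => by rw [h, zero_mul] at hYc; omega
  have hep : e ≤ p - 1 := hYc ▸ Nat.le_mul_of_pos_left e ht1
  have h1reg : ¬ p ∣ orderOf (1 : G) := by simp [hp.ne_one]
  have hprinc : ∀ χ : IrrCharacter G, charDegree (χ : G → ℂ) = 1 → χ = principal G :=
    fun χ h => eq_principal_of_degree_one hperf h
  have hpd : charDegree (principal G : G → ℂ) = 1 :=
    Nat.cast_injective (R := ℂ) (by rw [← CharApps.deg_eq, principal_apply, Nat.cast_one])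
  have hdvd : ∀ χ : IrrCharacter G, ¬ p ∣ charDegree (χ : G → ℂ) →
      charDegree (χ : G → ℂ) ∣ q ^ b * g₀ := fun χ hχ => by
    obtain ⟨n, -, hn, hn'⟩ := irr_degree_dvd_card χ.2
    have hnd : charDegree (χ : G → ℂ) = n :=
      Nat.cast_injective (R := ℂ) (by rw [← CharApps.deg_eq, hn])
    rw [hnd] at hχ ⊢
    rw [hG, mul_assoc] at hn'
    exact ((hp.coprime_iff_not_dvd.2 hχ).symm).dvd_of_dvd_mul_left hn'
  -- nonprincipal characters in `X` have degree divisible by `q`
  have hXq : ∀ χ ∈ X, χ ≠ principal G → q ∣ charDegree (χ : G → ℂ) := by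
    intro χ hχ hne
    by_contra hq'
    have hmod := (hX χ hχ).2.1
    have hnp : ¬ p ∣ charDegree (χ : G → ℂ) := fun h => by
      have h2 := (Int.natCast_dvd_natCast.2 h)
      have h3 : (p : ℤ) ∣ εX χ := (Int.ModEq.dvd_iff hmod).1 h2
      rcases (hX χ hχ).1 with e' | e' <;> rw [e'] at h3
      · exact hp.ne_one (Nat.dvd_one.1 (by exact_mod_cast h3))
      · exact hp.ne_one (Nat.dvd_one.1 (by
          have := dvd_neg.2 h3; simp only [neg_neg] at this; exact_mod_cast this))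
    have hle := Nat.le_of_dvd (Nat.pos_of_ne_zero hg0)
      (((Nat.Prime.coprime_iff_not_dvd hq).2 hq').symm.pow_right b |>.dvd_of_dvd_mul_left
        (hdvd χ hnp))
    have hne1 : charDegree (χ : G → ℂ) ≠ 1 := fun h => hne (hprinc χ h)
    have h0 := CharApps.deg_pos χ
    obtain ⟨k, hk⟩ := hmod.dvd
    rcases (hX χ hχ).1 with e' | e' <;> rw [e'] at hk
    · rcases lt_trichotomy k 0 with h | h | h
      · have := mul_le_mul_of_nonneg_left (show k ≤ -1 by omega) (Int.natCast_nonneg p)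
        omega
      · subst h; omega
      · have := mul_le_mul_of_nonneg_left (show 1 ≤ k by omega) (Int.natCast_nonneg p)
        omega
    · rcases lt_or_ge k 0 with h | h
      · have := mul_le_mul_of_nonneg_left (show k ≤ -1 by omega) (Int.natCast_nonneg p)
        omega
      · have := mul_nonneg (Int.natCast_nonneg p) h
        omega
  -- the exceptional degree
  obtain ⟨θ₀, hθ₀⟩ : Y.Nonempty := Finset.card_pos.1 (by omega)
  obtain ⟨d, hd⟩ : ∃ d, d = charDegree (θ₀ : G → ℂ) := ⟨_, rfl⟩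
  have hεε : (ε : ℂ) * ε = 1 := by rcases hε with e' | e' <;> rw [e'] <;> norm_num
  have hdY : ∀ θ ∈ Y, charDegree (θ : G → ℂ) = d := fun θ hθ => by
    have h := (hrel θ hθ 1 h1reg).trans (hrel θ₀ hθ₀ 1 h1reg).symm
    have h' := mul_left_cancel₀ (left_ne_zero_of_mul_eq_one hεε) h
    rw [CharApps.deg_eq, CharApps.deg_eq, Nat.cast_inj] at h'
    rw [h', hd]
  have hrel1 : (q : ℤ) ∣ ε * d - 1 := by
    have h := hrel θ₀ hθ₀ 1 h1reg
    simp only [CharApps.deg_eq, ← hd] at h
    have h' : ε * (d : ℤ) = ∑ χ ∈ X, εX χ * (charDegree (χ : G → ℂ) : ℤ) := by exact_mod_cast h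
    rw [h', ← Finset.add_sum_erase _ _ hpX, hε1, hpd, Nat.cast_one, one_mul, add_sub_cancel_left]
    exact Finset.dvd_sum fun χ hχ => dvd_mul_of_dvd_right
      (Int.natCast_dvd_natCast.2 (hXq χ (Finset.mem_erase.1 hχ).2 (Finset.mem_erase.1 hχ).1)) _
  have hqd : ¬ q ∣ d := fun h => by
    have := (dvd_mul_of_dvd_right (Int.natCast_dvd_natCast.2 h) ε).sub hrel1
    rw [sub_sub_cancel] at this
    exact hq.ne_one (Nat.dvd_one.1 (by exact_mod_cast this))
  have hdmod := hY θ₀ hθ₀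
  rw [← hd] at hdmod
  have hepm : (p : ℤ) ∣ d - ε * e := hdmod.symm.dvd
  have hpd' : ¬ p ∣ d := fun h => by
    have h3 : (p : ℤ) ∣ ε * e := by
      have := (Int.natCast_dvd_natCast.2 h).sub hepm
      rwa [sub_sub_cancel] at this
    have h4 : p ∣ e := by
      rcases hε with e' | e' <;> subst e' <;>
        simpa [Int.natCast_dvd_natCast] using h3
    have := Nat.le_of_dvd (by omega) h4; omega
  have hdg : d ∣ g₀ := ((Nat.Prime.coprime_iff_not_dvd hq).2 hqd).symm.pow_right b |>.dvd_of_dvd_mul_left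
    (hd ▸ hdvd θ₀ (hd ▸ hpd'))
  have hdle := Nat.le_of_dvd (Nat.pos_of_ne_zero hg0) hdg
  have hd1 : d ≠ 1 := fun h => Finset.disjoint_left.1 hXY hpX (hprinc θ₀ (hd ▸ h) ▸ hθ₀)
  have hd0 : 0 < d := hd ▸ CharApps.deg_pos θ₀
  have hdpe : (ε = 1 ∧ d = e) ∨ (ε = -1 ∧ d + e = p) := by
    obtain ⟨k, hk⟩ := hepm
    rcases hε with rfl | rfl
    · rcases lt_trichotomy k 0 with h | h | h
      · have := mul_le_mul_of_nonneg_left (show k ≤ -1 by omega) (Int.natCast_nonneg p)
        omega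
      · subst h; left; exact ⟨rfl, by omega⟩
      · have := mul_le_mul_of_nonneg_left (show 1 ≤ k by omega) (Int.natCast_nonneg p)
        omega
    · rcases lt_trichotomy k 1 with h | h | h
      · have := mul_le_mul_of_nonneg_left (show k ≤ 0 by omega) (Int.natCast_nonneg p)
        omega
      · subst h; right; exact ⟨rfl, by omega⟩
      · have := mul_le_mul_of_nonneg_left (show 2 ≤ k by omega) (Int.natCast_nonneg p)
        omega
  have ht2 : 2 ≤ t := by
    by_contra hlt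
    obtain rfl : t = 1 := by omega
    rw [one_mul] at hYc
    rcases hdpe with ⟨-, h⟩ | ⟨-, h⟩ <;> omega
  have he2p : 2 * e ≤ p - 1 := hYc ▸ Nat.mul_le_mul_right e ht2
  have hdvdp : p ∣ Nat.card G := hP ▸ Subgroup.card_subgroup_dvd_card _
  have hnn : ∀ H : Subgroup G, H.Normal → Nat.card H ≠ p := fun H hH hc => by
    rcases IsSimpleGroup.eq_bot_or_eq_top_of_normal H hH with rfl | rfl
    · rw [Subgroup.card_bot] at hc; exact hp.ne_one hc.symm
    · rw [Subgroup.card_top] at hc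
      exact hnc (isCyclic_of_prime_card hc)
  have hfaith := faithful_of_simple (χ := θ₀) (inferInstance : IsSimpleGroup G) (hd ▸ hd1)
  have h4503 := Cfsg.Agent.S4503.result p hp hdvdp (not_sq_dvd (P := P) hP) hnn
    (θ₀ : G → ℂ) (isCharacter_of_irr θ₀.2) hfaith
  rw [← hd] at h4503
  have hgd : g₀ = d := by
    obtain ⟨k, hk⟩ := hdg
    have h1 : k ≠ 0 := fun h => hg0 (by rw [hk, h, mul_zero])
    have h2 : k < 2 := by
      by_contra! h
      have := Nat.mul_le_mul_left d h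
      omega
    rw [hk, show k = 1 by omega, mul_one]
  rcases hdpe with ⟨rfl, hde⟩ | ⟨rfl, hde⟩
  · left
    refine ⟨d, by omega, hgd, ?_⟩
    obtain ⟨f⟩ := Cfsg.Agent.S4504.result p hp hdvdp (not_sq_dvd (P := P) hP) hnn
      (θ₀ : G → ℂ) (isCharacter_of_irr θ₀.2) hfaith (by rw [← hd]; omega)
    have hZ : Subgroup.center G = ⊥ := (IsSimpleGroup.eq_bot_or_eq_top_of_normal _
      inferInstance).resolve_right fun h => hnc (by
        letI : CommGroup G := { ‹Group G› with
          mul_comm := fun a b => (Subgroup.mem_center_iff.1 (h ▸ Subgroup.mem_top b) a) }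
        exact IsSimpleGroup.isCyclic)
    exact ⟨((QuotientGroup.quotientBot (G := G)).symm.trans
      (QuotientGroup.quotientMulEquivOfEq hZ.symm)).trans f⟩
  right
  -- the centralizer of `P`
  have hcard := (Subgroup.centralizer ((P : Subgroup G) : Set G)).card_mul_index
  have hPC : (P : Subgroup G) ≤ Subgroup.centralizer ((P : Subgroup G) : Set G) :=
    fun z hz w hw => Blocks.comm_of_prime_card hP w hw z hz
  have hCP : Subgroup.centralizer ((P : Subgroup G) : Set G) = (P : Subgroup G) := by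
    refine le_antisymm (fun z hz => ?_) hPC
    have hzp : z ^ p = 1 := by
      refine eq_one_of_regular_centralizing hP (Or.inr rfl) hX (hrel θ₀ hθ₀) (by omega) hfaith
        (pow_mem hz p) fun h => not_sq_dvd (P := P) hP ?_
      refine dvd_trans ?_ (orderOf_dvd_natCard z)
      rw [orderOf_pow] at h
      have h2 : p ∣ orderOf z := h.trans (Nat.div_dvd_of_dvd (Nat.gcd_dvd_left _ _))
      rw [Nat.gcd_eq_right h2] at h
      rw [sq]
      exact Nat.mul_dvd_of_dvd_div h2 h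
    exact Modular.mem_of_centralizes hP (not_sq_dvd (P := P) hP) ⟨1, by rw [pow_one]; exact hzp⟩ hz
  obtain ⟨n, hn⟩ : ∃ n, Nat.card (Sylow p G) = 1 + n * p := by
    refine ⟨Nat.card (Sylow p G) / p, ?_⟩
    have hmod := card_sylow_modEq_one p G
    rw [Nat.ModEq, Nat.mod_eq_of_lt hp.one_lt] at hmod
    have := Nat.div_add_mod (Nat.card (Sylow p G)) p
    rw [mul_comm]; omega
  rw [index_centralizer (P := P) hn, ← he, hCP, hP, hG, hgd, mul_assoc p] at hcard
  have hcard' : e * (n * p + 1) = q ^ b * d := Nat.eq_of_mul_eq_mul_left hp.pos hcard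
  have hcop : Nat.Coprime e d := by
    have h1 : Nat.Coprime e p := (hp.coprime_iff_not_dvd.2 fun h => by
      have := Nat.le_of_dvd (by omega) h; omega).symm
    rwa [← hde, Nat.coprime_add_self_right] at h1
  have heq : e ∣ q ^ b := hcop.dvd_of_dvd_mul_right (hcard' ▸ dvd_mul_right _ _)
  obtain ⟨i, -, hi⟩ := (Nat.dvd_prime_pow hq).1 heq
  have hqe : q ∣ e := by
    rw [hi]; refine dvd_pow_self _ fun h => ?_
    rw [h, pow_zero] at hi; omega
  have hq2 : q = 2 := by
    refine (Nat.prime_dvd_prime_iff_eq hq Nat.prime_two).1 (Int.natCast_dvd_natCast.1 ?_)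
    have a1 : (q : ℤ) ∣ (d : ℤ) + 1 := by
      have := dvd_neg.2 hrel1
      simpa [add_comm] using this
    have a3 : (q : ℤ) ∣ (e : ℤ) := Int.natCast_dvd_natCast.2 hqe
    have a4 : (q : ℤ) ∣ (e : ℤ) * t := a3.mul_right _
    have a5 : (e : ℤ) * t + 1 = d + e := by
      have : t * e + 1 = d + e := by omega
      rw [mul_comm]; exact_mod_cast this
    have := (a4.sub a3).sub a1
    rw [show (e : ℤ) * t - e - (d + 1) = -2 by linarith] at this
    exact dvd_neg.1 this
  subst hq2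
  have hCx : ∀ x ∈ (P : Subgroup G), x ≠ 1 →
      Subgroup.centralizer ({x} : Set G) = (P : Subgroup G) := fun x hx hx1 => by
    rw [centralizer_singleton_eq hP hx hx1, hCP]
  have hcardN : Nat.card (Subgroup.normalizer ((P : Subgroup G) : Set G)) = p * e := by
    have h := Subgroup.relIndex_mul_index
      (Subgroup.centralizer_le_normalizer ((P : Subgroup G) : Set G))
    have h2 := (Subgroup.centralizer ((P : Subgroup G) : Set G)).card_mul_index
    rw [← h, ← (Subgroup.normalizer ((P : Subgroup G) : Set G)).card_mul_index, ← mul_assoc] at h2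
    have h3 := Nat.eq_of_mul_eq_mul_right (Nat.pos_of_ne_zero Subgroup.index_ne_zero_of_finite) h2
    rw [← h3, hCP, hP, he, autIndex, hCP]
  have hXn : ∀ x ∈ (P : Subgroup G), x ≠ 1 →
      ∑ χ ∈ X, (χ : G → ℂ) x * conj ((χ : G → ℂ) x) = (e : ℂ) := fun x hx hx1 => by
    rw [Finset.sum_congr rfl (g := fun _ => (1 : ℂ)) fun χ hχ => ?_, Finset.sum_const, hXc,
      nsmul_eq_mul, mul_one]
    have h := (hX χ hχ).2.2 x hx hx1 1 (one_mem _) h1reg
    rw [mul_one] at h
    rcases (hX χ hχ).1 with e' | e' <;> simp [h, e']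
  refine ⟨rfl, P, d, e, t, εX, X, Y, hgd,
    { e_two := he2, t_two := ht2, et := by rw [mul_comm e]; omega, de := hde
      d_odd := Nat.odd_iff.2 (Nat.two_dvd_ne_zero.1 hqd), e_dvd := heq, card_P := hP
      card_G := by rw [hG, hgd], card_N := hcardN, cent := hCx
      principal_mem := hpX, sign_one := hε1, disj := hXY, card_X := hXc, card_Y := ht.symm
      sign := fun χ hχ => (hX χ hχ).1
      val_X := fun χ hχ x hx hx1 => by
        have h := (hX χ hχ).2.2 x hx hx1 1 (one_mem _) h1reg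
        rwa [mul_one] at h
      mod_X := fun χ hχ => (hX χ hχ).2.1
      even_X := hXq
      dvd_X := fun χ hχ => hgd ▸ hdvd χ fun h => ?_
      deg_Y := hdY
      rel := fun θ hθ g hg' => by
        have h := hrel θ hθ g hg'
        push_cast at h; linear_combination -h
      sum_Y := fun x hx hx1 => by rw [hsumY x hx hx1]; norm_num
      norm_Y := fun x hx hx1 => by linear_combination hnorm x hx hx1 - hXn x hx hx1
      vanish := fun χ hχX hχY x hx hx1 => ?_ }⟩
  · have h2 : (p : ℤ) ∣ εX χ :=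
      (Int.ModEq.dvd_iff (hX χ hχ).2.1).1 (Int.natCast_dvd_natCast.2 h)
    rcases (hX χ hχ).1 with e' | e' <;> rw [e'] at h2
    · exact hp.ne_one (Nat.dvd_one.1 (by exact_mod_cast h2))
    · exact hp.ne_one (Nat.dvd_one.1 (by
        have := dvd_neg.2 h2; simp only [neg_neg] at this; exact_mod_cast this))
  · have horth := second_orthogonality x x
    rw [if_pos (IsConj.refl x), hCx x hx hx1, hP, ← Finset.sum_compl_add_sum (X ∪ Y),
      Finset.sum_union hXY, hnorm x hx hx1, add_eq_right] at horth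
    have h0 : ∑ ψ ∈ (X ∪ Y)ᶜ, Complex.normSq ((ψ : G → ℂ) x) = 0 := by
      apply Complex.ofReal_injective
      rw [Complex.ofReal_sum, Complex.ofReal_zero, ← horth]
      exact Finset.sum_congr rfl fun ψ _ => (Complex.mul_conj _).symm
    exact Complex.normSq_eq_zero.1 ((Finset.sum_eq_zero_iff_of_nonneg
      fun ψ _ => Complex.normSq_nonneg _).1 h0 χ (by simp [hχX, hχY]))

end CfsgLib.BrauerTuan
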