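import Cfsg.Agent.Lib.BrauerTuan.Fixed
import Cfsg.Agent.Lib.CharApps.InertialThreeInvolution

/-!
# Products of the two exceptional characters
-/

set_option autoImplicit false
set_option linter.style.haveILetI false
set_option linter.unusedSectionVars false

namespace CfsgLib.BrauerTuan

open Cfsg CfsgLib.Chars CfsgLib.Brauer43 Finset
open scoped ComplexConjugate

universe u

variable {G : Type u} [Group G] [Finite G] {p : ℕ} [Fact p.Prime] {P : Sylow p G}
  {b d e t : ℕ} {εX : IrrCharacter G → ℤ} {X Y : Finset (IrrCharacter G)}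

/-- The multiplicities of a character. -/
noncomputable def coeff [Fintype G] (φ : G → ℂ) (χ : IrrCharacter G) : ℕ :=
  ⌊(classInner φ (χ : G → ℂ)).re⌋₊

theorem coeff_eq [Fintype G] {φ : G → ℂ} (hφ : IsCharacter G φ) (χ : IrrCharacter G) :
    classInner φ (χ : G → ℂ) = (coeff φ χ : ℂ) := by
  obtain ⟨m, hm⟩ := inner_irr_right_nat hφ χ
  rw [coeff, hm]
  simp

theorem sum_coeff [Fintype G] [Fintype (IrrCharacter G)] {φ : G → ℂ} (hφ : IsCharacter G φ)
    (g : G) : φ g = ∑ χ : IrrCharacter G, (coeff φ χ : ℂ) * (χ : G → ℂ) g := by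
  have h := congrFun (classFun_eq_sum (isClassFunction_of_isCharacter hφ)) g
  simp only [Finset.sum_apply, Pi.smul_apply, smul_eq_mul] at h
  rw [h]
  exact Finset.sum_congr rfl fun χ _ => by rw [coeff_eq hφ χ]

/-- The two exceptional characters. -/
structure Pair (D : Neg P b d e t εX X Y) (f : ℕ) (θ θ' : IrrCharacter G) : Prop where
  two_f : e = 2 * f
  f_two : 2 ≤ f
  t_eq : t = 2
  p_eq : p = 4 * f + 1
  d_eq : d = 2 * f + 1
  ne : θ ≠ θ'
  mem : ∀ ψ, ψ ∈ Y ↔ ψ = θ ∨ ψ = θ'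
  real : ∀ g, conj ((θ : G → ℂ) g) = (θ : G → ℂ) g
  real' : ∀ g, conj ((θ' : G → ℂ) g) = (θ' : G → ℂ) g
  sum_one : ∀ u ∈ (P : Subgroup G), u ≠ 1 → (θ : G → ℂ) u + (θ' : G → ℂ) u = 1
  mul_eq : ∀ u ∈ (P : Subgroup G), u ≠ 1 → (θ : G → ℂ) u * (θ' : G → ℂ) u = -(f : ℂ)

variable {D : Neg P b d e t εX X Y} {f : ℕ} {θ θ' : IrrCharacter G}

theorem Pair.symm (S : Pair D f θ θ') : Pair D f θ' θ :=
  { S with
    ne := S.ne.symm
    mem := fun ψ => (S.mem ψ).trans or_comm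
    real := S.real'
    real' := S.real
    sum_one := fun u hu hu1 => by rw [add_comm]; exact S.sum_one u hu hu1
    mul_eq := fun u hu hu1 => by rw [mul_comm]; exact S.mul_eq u hu hu1 }

theorem Pair.sq_eq (S : Pair D f θ θ') {u : G} (hu : u ∈ (P : Subgroup G)) (hu1 : u ≠ 1) :
    (θ : G → ℂ) u * (θ : G → ℂ) u = (θ : G → ℂ) u + (f : ℂ) := by
  linear_combination (θ : G → ℂ) u * S.sum_one u hu hu1 - S.mul_eq u hu hu1

theorem Pair.deg (S : Pair D f θ θ') : (θ : G → ℂ) 1 = (d : ℂ) := by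
  rw [CharApps.deg_eq, D.deg_Y θ ((S.mem θ).2 (Or.inl rfl))]

theorem Pair.irrational (S : Pair D f θ θ') {u : G} (hu : u ∈ (P : Subgroup G)) (hu1 : u ≠ 1)
    {c m : ℤ} (h : (c : ℂ) * (θ : G → ℂ) u = m) : c = 0 := by
  by_contra hc
  have h1 : (((2 * m - c) ^ 2 : ℤ) : ℂ) = (((p : ℤ) * c ^ 2 : ℤ) : ℂ) := by
    push_cast
    rw [← h, S.p_eq]
    push_cast
    linear_combination (4 * (c : ℂ) ^ 2) * S.sq_eq hu hu1
  obtain ⟨r, hr⟩ := CharApps.isSquare_of_mul_sq_eq (a := p) hc (Int.cast_injective h1).symm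
  have hp : p.Prime := Fact.out
  rcases hp.eq_one_or_self_of_dvd r (hr ▸ dvd_mul_right r r) with h2 | h2
  · rw [h2] at hr; exact hp.ne_one hr
  · rw [h2] at hr
    have := hp.two_le
    have := Nat.mul_le_mul_right p this
    omega

theorem exists_pair (D : Neg P b d e t εX X Y) (ht : t = 2) (he : e ≠ 2) :
    ∃ (f : ℕ) (θ θ' : IrrCharacter G), Pair D f θ θ' := by
  classical
  haveI := Fintype.ofFinite G
  obtain ⟨j, -, hj⟩ := (Nat.dvd_prime_pow Nat.prime_two).1 D.e_dvd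
  have hj2 : 2 ≤ j := by
    by_contra! hlt
    rcases (show j = 0 ∨ j = 1 by omega) with rfl | rfl
    · have := D.e_two; simp at hj; omega
    · simp at hj; omega
  obtain ⟨f, hf⟩ : 2 ∣ e := hj ▸ dvd_pow_self 2 (by omega)
  have hf2 : 2 ≤ f := by
    have := Nat.pow_le_pow_right two_pos hj2
    omega
  obtain ⟨θ, θ', hne, hY⟩ := Finset.card_eq_two.1 (D.card_Y.trans ht)
  have hde := D.de
  have het := D.et
  rw [ht] at het
  have hmem : ∀ ψ, ψ ∈ Y ↔ ψ = θ ∨ ψ = θ' := fun ψ => by simp [hY]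
  have hinv : ∀ (χ : IrrCharacter G) (u : G), u ∈ (P : Subgroup G) →
      conj ((χ : G → ℂ) u) = (χ : G → ℂ) u := fun χ u hu => by
    rw [← irr_inv, D.val_inv (isClassFunction_irr χ) hu]
  have hab : ∀ u ∈ (P : Subgroup G), u ≠ 1 →
      (θ : G → ℂ) u + (θ' : G → ℂ) u = 1 ∧ (θ : G → ℂ) u * (θ' : G → ℂ) u = -(f : ℂ) := by
    intro u hu hu1
    have h1 := D.sum_Y u hu hu1
    have h2 := D.norm_Y u hu hu1
    rw [hY, Finset.sum_pair hne] at h1 h2
    rw [hinv θ u hu, hinv θ' u hu] at h2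
    refine ⟨h1, ?_⟩
    have hpe : (p : ℂ) = 4 * (f : ℂ) + 1 := by
      exact_mod_cast (by omega : p = 4 * f + 1)
    have he' : (e : ℂ) = 2 * (f : ℂ) := by exact_mod_cast hf
    rw [hpe, he'] at h2
    linear_combination (((θ : G → ℂ) u + (θ' : G → ℂ) u + 1) / 2) * h1 - (1 / 2 : ℂ) * h2
  have hreal : ∀ θ θ' : IrrCharacter G, θ ≠ θ' → (∀ ψ, ψ ∈ Y ↔ ψ = θ ∨ ψ = θ') →
      (∀ u ∈ (P : Subgroup G), u ≠ 1 →
        (θ : G → ℂ) u + (θ' : G → ℂ) u = 1 ∧ (θ : G → ℂ) u * (θ' : G → ℂ) u = -(f : ℂ)) →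
      ∀ g, conj ((θ : G → ℂ) g) = (θ : G → ℂ) g := by
    intro θ θ' hne hmem hab g
    obtain ⟨x, hx, hx1⟩ := D.exists_x
    let ψ : IrrCharacter G := ⟨fun g => conj ((θ : G → ℂ) g), isIrrCharacter_conj θ.2⟩
    have hψv : ∀ g, (ψ : G → ℂ) g = conj ((θ : G → ℂ) g) := fun g => rfl
    have hf0 : (f : ℂ) ≠ 0 := Nat.cast_ne_zero.2 (by omega)
    have hψx : (ψ : G → ℂ) x = (θ : G → ℂ) x := hinv θ x hx
    have hψd : charDegree (ψ : G → ℂ) = d := Nat.cast_injective (R := ℂ) (by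
      rw [← CharApps.deg_eq, hψv, CharApps.deg_eq, D.deg_Y θ ((hmem θ).2 (Or.inl rfl))]
      simp)
    have hψY : ψ ∈ Y := by
      by_contra hψY
      by_cases hψX : ψ ∈ X
      · rcases eq_or_ne ψ (principal G) with h | h
        · rw [h, Neg.deg_principal] at hψd
          have := D.two_e; omega
        · have h2 := D.even_X ψ hψX h
          rw [hψd] at h2
          have := Nat.odd_iff.1 D.d_odd
          omega
      · have h0 := D.vanish ψ hψX hψY x hx hx1
        rw [hψx] at h0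
        have := (hab x hx hx1).2
        rw [h0, zero_mul] at this
        exact hf0 (neg_eq_zero.1 this.symm)
    rcases (hmem ψ).1 hψY with h | h
    · exact congrFun (congrArg Subtype.val h) g
    · exfalso
      obtain ⟨h1, h2⟩ := hab x hx hx1
      have h3 : (θ' : G → ℂ) x = (θ : G → ℂ) x := by rw [← h, hψx]
      rw [h3] at h1 h2
      have h4 : ((4 * f + 1 : ℕ) : ℂ) = 0 := by
        push_cast
        linear_combination (-2 * (θ : G → ℂ) x - 1) * h1 + 4 * h2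
      exact absurd (Nat.cast_eq_zero.1 h4) (by omega)
  exact ⟨f, θ, θ', hf, hf2, ht, by omega, by omega, hne, hmem, hreal θ θ' hne hmem hab,
    hreal θ' θ hne.symm (fun ψ => (hmem ψ).trans or_comm) (fun u hu hu1 => by
      obtain ⟨h1, h2⟩ := hab u hu hu1
      exact ⟨by rw [add_comm]; exact h1, by rw [mul_comm]; exact h2⟩),
    fun u hu hu1 => (hab u hu hu1).1, fun u hu hu1 => (hab u hu hu1).2⟩

theorem Neg.dvd_of_vanish (D : Neg P b d e t εX X Y) {χ : IrrCharacter G} (hX : χ ∉ X)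
    (hY : χ ∉ Y) : charDegree (χ : G → ℂ) = p * mult (P : Subgroup G) χ := by
  classical
  haveI := Fintype.ofFinite (P : Subgroup G)
  have h := sum_eq_mult (P : Subgroup G) χ
  rw [finsum_eq_sum_of_fintype, Finset.sum_eq_single (1 : (P : Subgroup G)) (fun u _ hu =>
    D.vanish χ hX hY u u.2 fun h => hu (Subtype.ext h)) (fun h => absurd (Finset.mem_univ _) h),
    OneMemClass.coe_one, CharApps.deg_eq, D.card_P] at h
  exact_mod_cast h

theorem Neg.exists_excess (D : Neg P b d e t εX X Y) {χ : IrrCharacter G} (hχ : χ ∈ X)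
    (hne : χ ≠ principal G) :
    ∃ k : ℕ, (charDegree (χ : G → ℂ) : ℤ) = p + εX χ + 2 * p * k := by
  have h2 := D.even_X χ hχ hne
  have hpo := D.p_odd
  have hp := (Fact.out : p.Prime)
  have hdvd : 2 * (p : ℤ) ∣ (charDegree (χ : G → ℂ) : ℤ) - p - εX χ := by
    have hc : IsCoprime (2 : ℤ) p := by
      rw [Int.isCoprime_iff_gcd_eq_one]
      exact (Nat.coprime_primes Nat.prime_two hp).2 (by omega)
    refine hc.mul_dvd ?_ ?_
    · rcases D.sign χ hχ with h | h <;> rw [h] <;> omega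
    · have h := ((D.mod_X χ hχ).symm.dvd).sub (dvd_refl (p : ℤ))
      rwa [sub_right_comm] at h
  obtain ⟨k, hk⟩ := hdvd
  obtain ⟨k', rfl⟩ : ∃ k' : ℕ, k = k' := by
    refine ⟨k.toNat, (Int.toNat_of_nonneg ?_).symm⟩
    by_contra! hlt
    have := mul_le_mul_of_nonneg_left (show k ≤ -1 by omega) (show (0 : ℤ) ≤ 2 * p by positivity)
    rcases D.deg_bounds hχ hne with ⟨h, hle⟩ | ⟨h, hle⟩ <;> rw [h] at hk <;> omega
  exact ⟨k', by linarith⟩

/-- The part of a decomposition outside the block counts once. -/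
theorem Neg.others_one (D : Neg P b d e t εX X Y) [Fintype (IrrCharacter G)]
    [DecidableEq (IrrCharacter G)] {c : IrrCharacter G → ℕ}
    (h : ∑ χ ∈ (X ∪ Y)ᶜ, c χ * mult (P : Subgroup G) χ = 1) :
    ∑ χ ∈ (X ∪ Y)ᶜ, c χ = 1 := by
  have hle : ∀ χ ∈ (X ∪ Y)ᶜ, c χ ≤ c χ * mult (P : Subgroup G) χ := fun χ hχ => by
    rw [Finset.mem_compl, Finset.mem_union, not_or] at hχ
    have this_1 := D.dvd_of_vanish hχ.1 hχ.2
    have := CharApps.deg_pos χ
    refine Nat.le_mul_of_pos_right _ (Nat.pos_of_ne_zero fun h0 => ?_)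
    rw [h0, mul_zero] at this_1
    omega
  refine le_antisymm (h ▸ Finset.sum_le_sum hle) (Nat.pos_of_ne_zero fun h0 => ?_)
  rw [Finset.sum_eq_zero fun χ hχ => by rw [Finset.sum_eq_zero_iff.1 h0 χ hχ, zero_mul]] at h
  exact zero_ne_one h

theorem Pair.split (S : Pair D f θ θ') [Fintype (IrrCharacter G)]
    [DecidableEq (IrrCharacter G)] (F : IrrCharacter G → ℂ) :
    ∑ χ, F χ = F (principal G) + ∑ χ ∈ X.erase (principal G), F χ + (F θ + F θ') +
      ∑ χ ∈ (X ∪ Y)ᶜ, F χ := by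
  have hY : Y = {θ, θ'} := Finset.ext fun ψ => by simp [S.mem ψ]
  rw [← Finset.sum_compl_add_sum (X ∪ Y), Finset.sum_union D.disj,
    ← Finset.add_sum_erase _ _ D.principal_mem, add_comm]
  conv_lhs => arg 1; arg 2; rw [hY, Finset.sum_pair S.ne]

/-- Value on `P` and degree of a character in terms of its constituents. -/
theorem Pair.equations (S : Pair D f θ θ') [Fintype G] [Fintype (IrrCharacter G)]
    [DecidableEq (IrrCharacter G)] {φ : G → ℂ} (hφ : IsCharacter G φ)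
    {k : IrrCharacter G → ℕ}
    (hk : ∀ χ ∈ X.erase (principal G), (charDegree (χ : G → ℂ) : ℤ) = p + εX χ + 2 * p * k χ) :
    (∀ u ∈ (P : Subgroup G), u ≠ 1 → φ u = (coeff φ (principal G) : ℂ) +
      ((∑ χ ∈ X.erase (principal G), (coeff φ χ : ℤ) * εX χ : ℤ) : ℂ) +
      (coeff φ θ : ℂ) * (θ : G → ℂ) u + (coeff φ θ' : ℂ) * (θ' : G → ℂ) u) ∧
    φ 1 = (coeff φ (principal G) : ℂ) +
      (p : ℂ) * (∑ χ ∈ X.erase (principal G), coeff φ χ : ℕ) +
      ((∑ χ ∈ X.erase (principal G), (coeff φ χ : ℤ) * εX χ : ℤ) : ℂ) +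
      2 * (p : ℂ) * (∑ χ ∈ X.erase (principal G), coeff φ χ * k χ : ℕ) +
      ((coeff φ θ : ℂ) + coeff φ θ') * d +
      (p : ℂ) * (∑ χ ∈ (X ∪ Y)ᶜ, coeff φ χ * mult (P : Subgroup G) χ : ℕ) := by
  constructor
  · intro u hu hu1
    rw [sum_coeff hφ u, S.split, principal_apply, mul_one,
      Finset.sum_eq_zero (s := (X ∪ Y)ᶜ) fun χ hχ => by
        rw [Finset.mem_compl, Finset.mem_union, not_or] at hχ
        rw [D.vanish χ hχ.1 hχ.2 u hu hu1, mul_zero],
      add_zero, ← add_assoc]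
    push_cast
    congr 2
    congr 1
    exact Finset.sum_congr rfl fun χ hχ => by
      rw [D.val_X χ (Finset.mem_erase.1 hχ).2 u hu hu1]
  · rw [sum_coeff hφ 1, S.split, principal_apply, mul_one, S.deg, S.symm.deg,
      Finset.sum_congr (s₁ := X.erase (principal G)) rfl
        (g := fun χ => (p : ℂ) * (coeff φ χ : ℂ) + (coeff φ χ : ℂ) * (εX χ : ℂ) +
          2 * (p : ℂ) * ((coeff φ χ : ℂ) * (k χ : ℂ))) fun χ hχ => by
        have h : (charDegree (χ : G → ℂ) : ℂ) = p + εX χ + 2 * p * k χ := by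
          exact_mod_cast hk χ hχ
        rw [CharApps.deg_eq, h]; ring,
      Finset.sum_congr (s₁ := (X ∪ Y)ᶜ) rfl
        (g := fun χ => (p : ℂ) * ((coeff φ χ : ℂ) * (mult (P : Subgroup G) χ : ℂ))) fun χ hχ => by
        rw [Finset.mem_compl, Finset.mem_union, not_or] at hχ
        rw [CharApps.deg_eq, D.dvd_of_vanish hχ.1 hχ.2, Nat.cast_mul]; ring,
      Finset.sum_add_distrib, Finset.sum_add_distrib, ← Finset.mul_sum, ← Finset.mul_sum,
      ← Finset.mul_sum]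
    push_cast
    ring

/-- The constituents of `θ θ'`. -/
theorem Pair.cross (S : Pair D f θ θ') [Fintype G] [Fintype (IrrCharacter G)]
    [DecidableEq (IrrCharacter G)] {k : IrrCharacter G → ℕ}
    (hk : ∀ χ ∈ X.erase (principal G), (charDegree (χ : G → ℂ) : ℤ) = p + εX χ + 2 * p * k χ) :
    let c := coeff (fun g => (θ : G → ℂ) g * (θ' : G → ℂ) g)
    c (principal G) = 0 ∧ c θ = 0 ∧ c θ' = 0 ∧
    (∀ χ ∈ X.erase (principal G), c χ ≠ 0 → εX χ = -1 ∧ k χ = 0) ∧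
    ∑ χ ∈ X.erase (principal G), c χ = f ∧ ∑ χ ∈ (X ∪ Y)ᶜ, c χ = 1 := by
  intro c
  have hp : p.Prime := Fact.out
  obtain ⟨x, hx, hx1⟩ := D.exists_x
  have hφ : IsCharacter G (fun g => (θ : G → ℂ) g * (θ' : G → ℂ) g) :=
    isCharacter_mul (isCharacter_of_irr θ.2) (isCharacter_of_irr θ'.2)
  obtain ⟨hev, hdeg⟩ := S.equations hφ hk
  have h0 : c (principal G) = 0 := by
    have h := coeff_eq hφ (principal G)
    rw [inner_def, Finset.sum_congr rfl (g := fun g => (θ : G → ℂ) g * conj ((θ' : G → ℂ) g))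
      fun g _ => by rw [principal_apply, map_one, mul_one, S.real'], ← inner_def,
      inner_irr_ne S.ne] at h
    exact_mod_cast h.symm
  have hev' := hev x hx hx1
  rw [S.mul_eq x hx hx1] at hev'
  set A : ℤ := ∑ χ ∈ X.erase (principal G), (c χ : ℤ) * εX χ with hA
  have hcc : c θ = c θ' := by
    have h := S.irrational hx hx1 (c := (c θ : ℤ) - c θ')
      (m := -(f : ℤ) - (c (principal G) : ℤ) - A - c θ') (by
        push_cast
        linear_combination -hev' - (c θ' : ℂ) * S.sum_one x hx hx1)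
    omega
  have hA' : A + c θ = -(f : ℤ) := by
    have h : (((A + c θ : ℤ)) : ℂ) = ((-(f : ℤ) : ℤ) : ℂ) := by
      rw [hcc]
      have h' : (c θ : ℂ) = (c θ' : ℂ) := by rw [hcc]
      have h00 : (c (principal G) : ℂ) = 0 := by rw [h0, Nat.cast_zero]
      push_cast
      linear_combination -hev' - (c θ' : ℂ) * S.sum_one x hx hx1 -
        ((θ : G → ℂ) x) * h' - h00
    exact_mod_cast h
  rw [S.deg, S.symm.deg] at hdeg
  set T := ∑ χ ∈ X.erase (principal G), c χ with hT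
  set K := ∑ χ ∈ X.erase (principal G), c χ * k χ with hK
  set o := ∑ χ ∈ (X ∪ Y)ᶜ, c χ * mult (P : Subgroup G) χ with ho
  have hdeg' : (d : ℤ) * d = c (principal G) + (p : ℤ) * T + A + 2 * (p : ℤ) * K +
      ((c θ : ℤ) + c θ') * d + (p : ℤ) * o := by exact_mod_cast hdeg
  have hpz : (p : ℤ) = 4 * f + 1 := by exact_mod_cast S.p_eq
  have hdz : (d : ℤ) = 2 * f + 1 := by exact_mod_cast S.d_eq
  have h1 : (p : ℤ) * ((T : ℤ) + 2 * K + c θ + o) = (p : ℤ) * ((f : ℤ) + 1) := by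
    rw [← hcc, h0] at hdeg'
    push_cast at hdeg'
    rw [hdz] at hdeg'
    rw [hpz] at hdeg' ⊢
    linear_combination -hdeg' - hA'
  have h2 := mul_left_cancel₀ (by have := hp.pos; positivity) h1
  have h3 : (∑ χ ∈ X.erase (principal G), (c χ : ℤ) * (1 + εX χ)) = T + A := by
    rw [hA, hT]; push_cast; rw [← Finset.sum_add_distrib]
    exact Finset.sum_congr rfl fun χ _ => by ring
  have h4 : ∀ χ ∈ X.erase (principal G), 0 ≤ (c χ : ℤ) * (1 + εX χ) := fun χ hχ => by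
    rcases D.sign χ (Finset.mem_erase.1 hχ).2 with h | h <;> rw [h] <;> simp
  have h5 := Finset.sum_nonneg h4
  have h6 : (2 : ℤ) ∣ T + A := h3 ▸ Finset.dvd_sum fun χ hχ => by
    rcases D.sign χ (Finset.mem_erase.1 hχ).2 with h | h <;> rw [h] <;> simp
  rw [h3] at h5
  have hv : T = f ∧ c θ = 0 ∧ K = 0 ∧ o = 1 := by omega
  refine ⟨h0, hv.2.1, by omega, fun χ hχ hc => ?_, hv.1, D.others_one hv.2.2.2⟩
  constructor
  · refine (D.sign χ (Finset.mem_erase.1 hχ).2).resolve_left fun h => ?_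
    have h7 := (Finset.sum_eq_zero_iff_of_nonneg h4).1 (by omega) χ hχ
    rw [h] at h7
    omega
  · have h7 := Finset.sum_eq_zero_iff.1 hv.2.2.1 χ hχ
    exact (mul_eq_zero.1 h7).resolve_left hc

/-- The constituents of `θ ^ 2`. -/
theorem Pair.square (S : Pair D f θ θ') [Fintype G] [Fintype (IrrCharacter G)]
    [DecidableEq (IrrCharacter G)] {k : IrrCharacter G → ℕ}
    (hk : ∀ χ ∈ X.erase (principal G), (charDegree (χ : G → ℂ) : ℤ) = p + εX χ + 2 * p * k χ) :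
    let c := coeff (fun g => (θ : G → ℂ) g * (θ : G → ℂ) g)
    c (principal G) = 1 ∧ c θ = 1 ∧ c θ' = 0 ∧
    (∀ χ ∈ X.erase (principal G), c χ ≠ 0 → εX χ = 1 ∧ k χ = 0) ∧
    ∑ χ ∈ X.erase (principal G), c χ + 1 = f ∧ ∑ χ ∈ (X ∪ Y)ᶜ, c χ = 1 := by
  intro c
  have hp : p.Prime := Fact.out
  obtain ⟨x, hx, hx1⟩ := D.exists_x
  have hφ : IsCharacter G (fun g => (θ : G → ℂ) g * (θ : G → ℂ) g) :=
    isCharacter_mul (isCharacter_of_irr θ.2) (isCharacter_of_irr θ.2)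
  have hφ' : IsCharacter G (fun g => (θ : G → ℂ) g * (θ' : G → ℂ) g) :=
    isCharacter_mul (isCharacter_of_irr θ.2) (isCharacter_of_irr θ'.2)
  obtain ⟨hev, hdeg⟩ := S.equations hφ hk
  have h0 : c (principal G) = 1 := by
    have h := coeff_eq hφ (principal G)
    rw [inner_def, Finset.sum_congr rfl (g := fun g => (θ : G → ℂ) g * conj ((θ : G → ℂ) g))
      fun g _ => by rw [principal_apply, map_one, mul_one, S.real], ← inner_def,
      inner_irr_self θ] at h
    exact_mod_cast h.symm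
  have hc2 : c θ' = 0 := by
    have h := coeff_eq hφ θ'
    rw [inner_def, Finset.sum_congr rfl
      (g := fun g => (θ : G → ℂ) g * (θ' : G → ℂ) g * conj ((θ : G → ℂ) g))
      fun g _ => by rw [S.real', S.real]; ring, ← inner_def, coeff_eq hφ' θ] at h
    rw [(S.cross hk).2.1] at h
    exact_mod_cast h.symm
  have hev' := hev x hx hx1
  rw [S.sq_eq hx hx1] at hev'
  set A : ℤ := ∑ χ ∈ X.erase (principal G), (c χ : ℤ) * εX χ with hA
  have h2' : (c θ' : ℂ) = 0 := by rw [hc2, Nat.cast_zero]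
  have h0' : (c (principal G) : ℂ) = 1 := by rw [h0, Nat.cast_one]
  have hc1 : c θ = 1 := by
    have h := S.irrational hx hx1 (c := (c θ : ℤ) - 1) (m := (f : ℤ) - 1 - A) (by
      push_cast
      linear_combination -hev' - (θ' : G → ℂ) x * h2' - h0')
    omega
  have hA' : 1 + A = (f : ℤ) := by
    have h : ((1 + A : ℤ) : ℂ) = ((f : ℤ) : ℂ) := by
      have h11 : (c θ : ℂ) = 1 := by rw [hc1, Nat.cast_one]
      push_cast
      linear_combination -hev' - (θ' : G → ℂ) x * h2' - h0' -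
        (θ : G → ℂ) x * h11
    exact_mod_cast h
  rw [S.deg] at hdeg
  set T := ∑ χ ∈ X.erase (principal G), c χ with hT
  set K := ∑ χ ∈ X.erase (principal G), c χ * k χ with hK
  set o := ∑ χ ∈ (X ∪ Y)ᶜ, c χ * mult (P : Subgroup G) χ with ho
  have hdeg' : (d : ℤ) * d = c (principal G) + (p : ℤ) * T + A + 2 * (p : ℤ) * K +
      ((c θ : ℤ) + c θ') * d + (p : ℤ) * o := by exact_mod_cast hdeg
  have hpz : (p : ℤ) = 4 * f + 1 := by exact_mod_cast S.p_eq
  have hdz : (d : ℤ) = 2 * f + 1 := by exact_mod_cast S.d_eq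
  have h1 : (p : ℤ) * ((T : ℤ) + 2 * K + o) = (p : ℤ) * (f : ℤ) := by
    rw [hc1, hc2, h0] at hdeg'
    push_cast at hdeg'
    rw [hdz] at hdeg'
    rw [hpz] at hdeg' ⊢
    linear_combination -hdeg' - hA'
  have h2 := mul_left_cancel₀ (by have := hp.pos; positivity) h1
  have h3 : (∑ χ ∈ X.erase (principal G), (c χ : ℤ) * (1 - εX χ)) = T - A := by
    rw [hA, hT]; push_cast; rw [← Finset.sum_sub_distrib]
    exact Finset.sum_congr rfl fun χ _ => by ring
  have h4 : ∀ χ ∈ X.erase (principal G), 0 ≤ (c χ : ℤ) * (1 - εX χ) := fun χ hχ => by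
    rcases D.sign χ (Finset.mem_erase.1 hχ).2 with h | h <;> rw [h] <;> simp
  have h5 := Finset.sum_nonneg h4
  have h6 : (2 : ℤ) ∣ T - A := h3 ▸ Finset.dvd_sum fun χ hχ => by
    rcases D.sign χ (Finset.mem_erase.1 hχ).2 with h | h <;> rw [h] <;> simp
  rw [h3] at h5
  have hv : T + 1 = f ∧ K = 0 ∧ o = 1 := by omega
  refine ⟨h0, hc1, hc2, fun χ hχ hc => ?_, hv.1, D.others_one hv.2.2⟩
  constructor
  · refine (D.sign χ (Finset.mem_erase.1 hχ).2).resolve_right fun h => ?_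
    have h7 := (Finset.sum_eq_zero_iff_of_nonneg h4).1 (by omega) χ hχ
    rw [h] at h7
    omega
  · have h7 := Finset.sum_eq_zero_iff.1 hv.2.1 χ hχ
    exact (mul_eq_zero.1 h7).resolve_left hc

end CfsgLib.BrauerTuan
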