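import Cfsg.Agent.Lib.BrauerTuan.Setup
import Cfsg.Agent.Lib.CharApps.ClassCount
import Cfsg.Agent.Lib.CharApps.InertialThreeInvolution

/-!
# A two-central involution
-/

set_option autoImplicit false
set_option linter.style.haveILetI false
set_option linter.unusedSectionVars false

namespace CfsgLib.BrauerTuan

open Cfsg CfsgLib.Chars CfsgLib.Brauer43 Finset
open scoped ComplexConjugate

universe u

variable {G : Type u} [Group G] [Finite G] {p : ℕ} [Fact p.Prime] {P : Sylow p G}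
  {b d e t : ℕ} {εX : IrrCharacter G → ℤ} {X Y : Finset (IrrCharacter G)}

theorem Neg.p_odd (D : Neg P b d e t εX X Y) : p % 2 = 1 := by
  refine Nat.odd_iff.1 ((Fact.out : p.Prime).odd_of_ne_two fun h => ?_)
  have := Nat.mul_le_mul D.e_two D.t_two
  have := D.et
  omega

theorem Neg.two_e (D : Neg P b d e t εX X Y) : 2 * e + 1 ≤ p := by
  have := Nat.mul_le_mul_left e D.t_two
  have := D.et
  omega

theorem Neg.d_lt (D : Neg P b d e t εX X Y) : d < p := by
  have := D.de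
  have := D.e_two
  omega

theorem Neg.deg_principal : charDegree (principal G : G → ℂ) = 1 :=
  Nat.cast_injective (R := ℂ) (by rw [← CharApps.deg_eq, principal_apply, Nat.cast_one])

theorem Neg.exists_x (D : Neg P b d e t εX X Y) : ∃ x ∈ (P : Subgroup G), x ≠ 1 := by
  haveI : Nontrivial (P : Subgroup G) :=
    Finite.one_lt_card_iff_nontrivial.1 ((Fact.out : p.Prime).one_lt.trans_eq D.card_P.symm)
  obtain ⟨⟨x, hx⟩, hx1⟩ := exists_ne (1 : (P : Subgroup G))
  exact ⟨x, hx, fun h => hx1 (Subtype.ext h)⟩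

theorem Neg.deg_ne_one (D : Neg P b d e t εX X Y) {χ : IrrCharacter G} (hχ : χ ∈ X)
    (hne : χ ≠ principal G) : charDegree (χ : G → ℂ) ≠ 1 := fun h => by
  have := D.even_X χ hχ hne
  omega

/-- Degrees of nonprincipal characters are at least `p - 1`, and `p + 1` for positive sign. -/
theorem Neg.deg_bounds (D : Neg P b d e t εX X Y) {χ : IrrCharacter G} (hχ : χ ∈ X)
    (hne : χ ≠ principal G) :
    (εX χ = 1 ∧ p + 1 ≤ charDegree (χ : G → ℂ)) ∨
      (εX χ = -1 ∧ p - 1 ≤ charDegree (χ : G → ℂ)) := by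
  obtain ⟨k, hk⟩ := (D.mod_X χ hχ).dvd
  have h0 := CharApps.deg_pos χ
  have h1 := D.deg_ne_one hχ hne
  have hp := (Fact.out : p.Prime).two_le
  rcases D.sign χ hχ with h | h <;> rw [h] at hk
  · left
    refine ⟨h, ?_⟩
    rcases lt_or_ge k 0 with hk' | hk'
    · have := mul_le_mul_of_nonneg_left (show k ≤ -1 by omega) (Int.natCast_nonneg p)
      omega
    · have := mul_nonneg (Int.natCast_nonneg p) hk'
      omega
  · right
    refine ⟨h, ?_⟩
    rcases lt_or_ge k 0 with hk' | hk'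
    · have := mul_le_mul_of_nonneg_left (show k ≤ -1 by omega) (Int.natCast_nonneg p)
      omega
    · have := mul_nonneg (Int.natCast_nonneg p) hk'
      omega

/-- A nonprincipal degree that is twice an odd number equals `p + 1`. -/
theorem Neg.degree_cases (D : Neg P b d e t εX X Y) {χ : IrrCharacter G} (hχ : χ ∈ X)
    (hne : χ ≠ principal G) (h4 : ¬ 4 ∣ charDegree (χ : G → ℂ)) :
    t = 2 ∧ εX χ = 1 := by
  have h2 := D.even_X χ hχ hne
  obtain ⟨δ, hδ⟩ := h2
  have hodd : Odd δ := Nat.odd_iff.2 (by omega)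
  have hδd : δ ∣ d := by
    refine (Nat.Coprime.pow_right b (Nat.coprime_two_right.2 hodd)).dvd_of_dvd_mul_left ?_
    exact (Dvd.intro_left 2 hδ.symm).trans (D.dvd_X χ hχ)
  have hd0 : 0 < d := by have := D.d_odd; rcases this with ⟨k, hk⟩; omega
  have hδle := Nat.le_of_dvd hd0 hδd
  have hde := D.de
  have hdlt := D.d_lt
  have he := D.two_e
  have he2 := D.e_two
  have hpo := D.p_odd
  obtain ⟨k, hk⟩ := (D.mod_X χ hχ).dvd
  have hδ0 : 0 < δ := by have := CharApps.deg_pos χ; omega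
  rcases D.sign χ hχ with h | h <;> rw [h] at hk
  · refine ⟨?_, h⟩
    have hk1 : k = -1 := by
      rcases lt_trichotomy k (-1) with hk' | hk' | hk'
      · have := mul_le_mul_of_nonneg_left (show k ≤ -2 by omega) (Int.natCast_nonneg p)
        omega
      · exact hk'
      · have := mul_nonneg (Int.natCast_nonneg p) (show (0 : ℤ) ≤ k by omega)
        omega
    subst hk1
    have h3 : δ ∣ 2 * e + 2 := by
      have h5 : δ ∣ 2 * δ - 2 * d := Nat.dvd_sub (dvd_mul_left _ _) (dvd_mul_of_dvd_right hδd _)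
      have h6 : δ ∣ 2 * d + (2 * e + 2) := ⟨4, by omega⟩
      exact (Nat.dvd_add_right (dvd_mul_of_dvd_right hδd _)).1 h6
    obtain ⟨m, hm⟩ := h3
    have hmle : m ≤ 2 := by
      by_contra! hlt
      have := Nat.mul_le_mul_left δ hlt
      omega
    rcases (show m = 0 ∨ m = 1 ∨ m = 2 by omega) with rfl | rfl | rfl
    · omega
    · omega
    · have h7 : e * t = 2 * e := by have := D.et; omega
      exact Nat.eq_of_mul_eq_mul_left (show 0 < e by omega) (h7.trans (mul_comm _ _))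
  · exfalso
    have hk1 : k = -1 := by
      rcases lt_trichotomy k (-1) with hk' | hk' | hk'
      · have := mul_le_mul_of_nonneg_left (show k ≤ -2 by omega) (Int.natCast_nonneg p)
        omega
      · exact hk'
      · have := mul_nonneg (Int.natCast_nonneg p) (show (0 : ℤ) ≤ k by omega)
        omega
    subst hk1
    have h3 : δ ∣ 2 * e - 2 := by
      have h6 : 2 * d + (2 * e - 2) = δ * 4 := by omega
      exact (Nat.dvd_add_right (dvd_mul_of_dvd_right hδd _)).1 ⟨4, h6⟩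
    obtain ⟨m, hm⟩ := h3
    have hmle : m ≤ 1 := by
      by_contra! hlt
      have := Nat.mul_le_mul_left δ hlt
      omega
    rcases (show m = 0 ∨ m = 1 by omega) with rfl | rfl <;> omega

/-- A two-central involution. -/
theorem Neg.exists_involution (D : Neg P b d e t εX X Y) :
    ∃ (s : G) (c : ℕ), s * s = 1 ∧ s ≠ 1 ∧
      Nat.card (Subgroup.centralizer ({s} : Set G)) = 2 ^ b * c ∧ ¬ p ∣ 2 ^ b * c ∧
      Odd (Subgroup.centralizer ({s} : Set G)).index := by
  have hp : p.Prime := Fact.out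
  haveI : Fact (Nat.Prime 2) := ⟨Nat.prime_two⟩
  obtain ⟨T⟩ : Nonempty (Sylow 2 G) := inferInstance
  have hodd : ¬ 2 ∣ p * d := fun h => by
    have := D.p_odd
    rcases Nat.prime_two.dvd_mul.1 h with h | h
    · omega
    · have := Nat.odd_iff.1 D.d_odd; omega
  have hT : Nat.card (T : Subgroup G) = 2 ^ b :=
    CfsgLib.Small.card_sylow_eq (p := 2) b (p * d) (by rw [D.card_G]; ring) hodd T
  have hb : b ≠ 0 := fun h => by
    have h1 := Nat.le_of_dvd (by positivity) D.e_dvd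
    rw [h, pow_zero] at h1
    have := D.e_two; omega
  haveI : Nontrivial (T : Subgroup G) := Finite.one_lt_card_iff_nontrivial.1 (by
    rw [hT]; exact Nat.one_lt_two_pow hb)
  haveI := IsPGroup.center_nontrivial T.isPGroup'
  haveI : Fintype (Subgroup.center (T : Subgroup G)) := Fintype.ofFinite _
  obtain ⟨⟨⟨s, hsT⟩, hsZ⟩, hs⟩ := exists_prime_orderOf_dvd_card' (G := Subgroup.center (T : Subgroup G)) 2 (by
    have h1 := Subgroup.card_subgroup_dvd_card (Subgroup.center (T : Subgroup G))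
    rw [hT] at h1
    obtain ⟨k, -, hk⟩ := (Nat.dvd_prime_pow Nat.prime_two).1 h1
    rw [hk]
    refine dvd_pow_self _ fun h0 => ?_
    have h2 := Finite.one_lt_card (α := Subgroup.center (T : Subgroup G))
    rw [hk, h0, pow_zero] at h2
    omega)
  rw [← Subgroup.orderOf_coe, ← Subgroup.orderOf_coe] at hs
  have hs2 : s * s = 1 := by rw [← pow_two, ← hs]; exact pow_orderOf_eq_one s
  have hs1 : s ≠ 1 := fun h => by
    rw [show ((⟨⟨s, hsT⟩, hsZ⟩ : Subgroup.center (T : Subgroup G)) : (T : Subgroup G)).1 = s from rfl,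
      h, orderOf_one] at hs
    omega
  have hTC : (T : Subgroup G) ≤ Subgroup.centralizer ({s} : Set G) := fun w hw => by
    rw [Subgroup.mem_centralizer_singleton_iff]
    exact congrArg Subtype.val (Subgroup.mem_center_iff.1 hsZ ⟨w, hw⟩)
  obtain ⟨c, hc⟩ := hT ▸ Subgroup.card_dvd_of_le hTC
  refine ⟨s, c, hs2, hs1, hc, fun hdvd => ?_, ?_⟩
  · rw [← hc] at hdvd
    obtain ⟨y, hy⟩ := exists_prime_orderOf_dvd_card' p hdvd
    rw [← Subgroup.orderOf_coe] at hy
    have hyp : IsPGroup p (Subgroup.zpowers (y : G)) :=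
      IsPGroup.of_card (n := 1) (by rw [pow_one, Nat.card_zpowers, hy])
    obtain ⟨Q, hQ⟩ := hyp.exists_le_sylow
    obtain ⟨g, hg⟩ := MulAction.exists_smul_eq G Q P
    have hv : g * (y : G) * g⁻¹ ∈ (P : Subgroup G) := by
      rw [← hg]
      exact ⟨y, hQ (Subgroup.mem_zpowers _), rfl⟩
    have hv1 : g * (y : G) * g⁻¹ ≠ 1 := fun h => by
      rw [conj_eq_one_iff] at h
      rw [h, orderOf_one] at hy
      exact hp.ne_one hy.symm
    have hmem : g * s * g⁻¹ ∈ (P : Subgroup G) := by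
      rw [← D.cent _ hv hv1, Subgroup.mem_centralizer_singleton_iff]
      have := Subgroup.mem_centralizer_singleton_iff.1 y.2
      calc g * s * g⁻¹ * (g * y * g⁻¹) = g * (s * y) * g⁻¹ := by group
        _ = g * (y * s) * g⁻¹ := by rw [this]
        _ = _ := by group
    have h2 := Subgroup.orderOf_dvd_natCard _ hmem
    rw [D.card_P, orderOf_eq_prime (by rw [pow_two, show g * s * g⁻¹ * (g * s * g⁻¹) =
      g * (s * s) * g⁻¹ by group, hs2, mul_one, mul_inv_cancel] : (g * s * g⁻¹) ^ 2 = 1)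
      (fun h => hs1 (conj_eq_one_iff.1 h))] at h2
    have := (Nat.prime_dvd_prime_iff_eq Nat.prime_two hp).1 h2
    have := D.p_odd
    omega
  · have h := (Subgroup.centralizer ({s} : Set G)).card_mul_index
    rw [hc, D.card_G, show p * 2 ^ b * d = 2 ^ b * (p * d) by ring, mul_assoc] at h
    have h' := Nat.eq_of_mul_eq_mul_left (by positivity) h
    refine Nat.odd_iff.2 (Nat.two_dvd_ne_zero.1 fun h2 => hodd ?_)
    rw [← h']; exact dvd_mul_of_dvd_right h2 _

/-- The number of solutions is a multiple of the squared centralizer order. -/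
theorem sq_card_centralizer_dvd (s z : G) :
    Nat.card (Subgroup.centralizer ({s} : Set G)) ^ 2 ∣
      Nat.card {ab : G × G // (ab.1 * s * ab.1⁻¹) * (ab.2 * s * ab.2⁻¹) = z} := by
  classical
  haveI := Fintype.ofFinite G
  let A := {u : G // IsConj s u ∧ IsConj s (u⁻¹ * z)}
  let eqv : {ab : G × G // (ab.1 * s * ab.1⁻¹) * (ab.2 * s * ab.2⁻¹) = z} ≃
      Σ u : A, {a : G // a * s * a⁻¹ = u.1} × {a : G // a * s * a⁻¹ = u.1⁻¹ * z} :=
    { toFun := fun ab => ⟨⟨ab.1.1 * s * ab.1.1⁻¹, isConj_iff.2 ⟨_, rfl⟩,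
          isConj_iff.2 ⟨ab.1.2, eq_inv_mul_of_mul_eq ab.2⟩⟩,
        ⟨ab.1.1, rfl⟩, ⟨ab.1.2, eq_inv_mul_of_mul_eq ab.2⟩⟩
      invFun := fun q => ⟨(q.2.1.1, q.2.2.1), by
        rw [q.2.1.2, q.2.2.2, mul_inv_cancel_left]⟩
      left_inv := fun ab => rfl
      right_inv := by
        rintro ⟨⟨u, h1, h2⟩, ⟨a, ha⟩, ⟨c, hc⟩⟩
        simp only at ha hc
        subst ha
        rfl }
  haveI : Fintype A := Fintype.ofFinite _
  rw [Nat.card_congr eqv, Nat.card_sigma]
  refine Finset.dvd_sum fun u _ => ?_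
  rw [Nat.card_prod, CharApps.card_conj_fiber s u.2.1, CharApps.card_conj_fiber s u.2.2, pow_two]

/-- At an involution of odd class length a character of two-power degree vanishes. -/
theorem eq_zero_of_degree_two_pow [IsSimpleGroup G] (hnc : ¬ IsCyclic G) {s : G} (hs1 : s ≠ 1)
    (hodd : Odd (Subgroup.centralizer ({s} : Set G)).index) (χ : IrrCharacter G) {k : ℕ}
    (hdeg : charDegree (χ : G → ℂ) = 2 ^ k) (h1 : charDegree (χ : G → ℂ) ≠ 1) :
    (χ : G → ℂ) s = 0 := by
  obtain ⟨χ, r, ρ, hρ, rfl⟩ := χ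
  haveI := hρ
  have hr : Module.finrank ℂ (Fin r → ℂ) = charDegree ρ.character := by
    show _ = ⌊(ρ.character 1).re⌋₊
    rw [Representation.char_one]
    simp
  have hcop : Nat.Coprime (Module.finrank ℂ (Fin r → ℂ))
      (Subgroup.centralizer ({s} : Set G)).index := by
    rw [hr, hdeg]
    exact (Nat.coprime_two_left.2 hodd).pow_left k
  refine (character_eq_zero_or_norm_eq ρ s hcop).resolve_right fun hn => ?_
  obtain ⟨ω, hω⟩ := (norm_character_eq_iff ρ s).1 hn
  have hfaith := faithful_of_simple (χ := ⟨ρ.character, r, ρ, hρ, rfl⟩)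
    (inferInstance : IsSimpleGroup G) h1
  have hcen : ∀ g, s * g = g * s := fun g => by
    have h2 : ρ (s * g) = ρ (g * s) := by
      rw [map_mul, map_mul, hω]
      refine LinearMap.ext fun v => ?_
      simp
    have h3 : ρ ((g * s)⁻¹ * (s * g)) = 1 := by
      rw [map_mul, h2, ← map_mul, inv_mul_cancel, map_one]
    have h4 := hfaith _ (show ρ.character ((g * s)⁻¹ * (s * g)) = ρ.character 1 by
      simp only [Representation.character, h3, map_one])
    exact (inv_mul_eq_one.1 h4).symm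
  have hp := prime_card_of_central hs1 hcen
  haveI : Fact (Nat.card G).Prime := ⟨hp⟩
  exact hnc (isCyclic_of_prime_card (p := Nat.card G) rfl)

set_option maxHeartbeats 800000 in
/-- The bound on the order of a Sylow two-subgroup. -/
theorem Neg.bound [IsSimpleGroup G] (hnc : ¬ IsCyclic G) (D : Neg P b d e t εX X Y)
    (hm : t = 2 → e ≠ 2 → ∀ χ ∈ X, εX χ = -1 → charDegree (χ : G → ℂ) = p - 1) : 2 ^ b ≤ p := by
  classical
  haveI := Fintype.ofFinite G
  haveI := irrFintype G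
  have hp : p.Prime := Fact.out
  obtain ⟨s, c, hs2, hs1, hc, hpc, hodd⟩ := D.exists_involution
  obtain ⟨x, hx, hx1⟩ := D.exists_x
  choose z hz using fun χ : IrrCharacter G => CharApps.exists_int_apply_involution hs2 χ
  have hpo := D.p_odd
  have hde := D.de
  have he2 := D.e_two
  have h2e := D.two_e
  have hd0 : 0 < d := by rcases D.d_odd with ⟨k, hk⟩; omega
  -- divisibility of the values
  have hdiv : ∀ χ ∈ X, χ ≠ principal G → ∀ j, 2 ^ j ∣ charDegree (χ : G → ℂ) → (2 ^ j : ℤ) ∣ z χ := by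
    intro χ hχ _ j hj
    have h := degree_dvd_of_int {χ} id (x := s) (c := z χ)
      (fun i hi => by rw [Finset.mem_singleton.1 hi]; rfl) (CharApps.deg_pos χ).ne'
      (by rw [Finset.sum_singleton]; exact (hz χ).symm)
    have h2 := ((Nat.coprime_two_left.2 hodd).pow_left j).dvd_of_dvd_mul_left (hj.trans h)
    exact_mod_cast Int.natCast_dvd.2 h2
  have hk : ∀ χ ∈ X, χ ≠ principal G → ∃ k : ℤ, (d : ℤ) * z χ = charDegree (χ : G → ℂ) * k ∧
      (4 ∣ charDegree (χ : G → ℂ) → 4 ∣ k * z χ) := by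
    intro χ hχ hne
    obtain ⟨j, δ, hδ, hjδ⟩ : ∃ j δ, Odd δ ∧ charDegree (χ : G → ℂ) = 2 ^ j * δ :=
      ⟨_, _, Nat.odd_iff.2 (Nat.two_dvd_ne_zero.1 (Nat.not_dvd_ordCompl Nat.prime_two
        (CharApps.deg_pos χ).ne')), (Nat.ordProj_mul_ordCompl_eq_self _ 2).symm⟩
    have hδd : δ ∣ d := by
      refine (Nat.Coprime.pow_right b (Nat.coprime_two_right.2 hδ)).dvd_of_dvd_mul_left ?_
      exact (Dvd.intro_left _ hjδ.symm).trans (D.dvd_X χ hχ)
    obtain ⟨α, hα⟩ := hdiv χ hχ hne j (Dvd.intro δ hjδ.symm)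
    obtain ⟨η, hη⟩ := hδd
    refine ⟨(η : ℤ) * α, by rw [hα, hη, hjδ]; push_cast; ring, fun h4 => ?_⟩
    have h4' : 2 ^ 2 ∣ 2 ^ j * δ := hjδ ▸ h4
    have hj : 2 ≤ j := (Nat.pow_dvd_pow_iff_le_right one_lt_two).1
      ((Nat.Coprime.pow_left 2 (Nat.coprime_two_left.2 hδ)).dvd_of_dvd_mul_right h4')
    rw [hα]
    exact dvd_mul_of_dvd_right (dvd_mul_of_dvd_left (by exact_mod_cast pow_dvd_pow (2 : ℤ) hj) _) _
  choose! k hk1 hk4 using hk
  obtain ⟨θ₀, hθ₀⟩ : Y.Nonempty := Finset.card_pos.1 (by rw [D.card_Y]; have := D.t_two; omega)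
  set w := z θ₀ with hw
  have hsreg : ¬ p ∣ orderOf s := fun h => by
    have := Nat.le_of_dvd two_pos (h.trans (orderOf_dvd_of_pow_eq_one (by rw [pow_two]; exact hs2)))
    omega
  have hYz : ∀ θ ∈ Y, z θ = w := fun θ hθ => by
    have h := (D.rel θ hθ s hsreg).trans (D.rel θ₀ hθ₀ s hsreg).symm
    rw [← hz, ← hz] at h
    exact_mod_cast h
  have hz1 : z (principal G) = 1 := by
    have := hz (principal G)
    rw [principal_apply] at this
    exact_mod_cast this
  set X' := X.erase (principal G) with hX'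
  have hmem : ∀ χ ∈ X', χ ∈ X ∧ χ ≠ principal G := fun χ hχ =>
    ⟨(Finset.mem_erase.1 hχ).2, (Finset.mem_erase.1 hχ).1⟩
  have hwrel : w = -1 - ∑ χ ∈ X', εX χ * z χ := by
    have h := D.rel θ₀ hθ₀ s hsreg
    simp only [← hz] at h
    have h' : w = -∑ χ ∈ X, εX χ * z χ := by exact_mod_cast h
    rw [h', ← Finset.add_sum_erase _ _ D.principal_mem, D.sign_one, hz1]
    ring
  set M : ℤ := d + w ^ 2 + ∑ χ ∈ X', εX χ * (k χ * z χ) with hM
  -- the class equation
  set N := Nat.card {ab : G × G // (ab.1 * s * ab.1⁻¹) * (ab.2 * s * ab.2⁻¹) = x} with hN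
  have hcount : (N : ℤ) = p * 2 ^ b * M := by
    have h := CharApps.card_conj_mul_conj s s x
    rw [← hN] at h
    have hxi : x⁻¹ ∈ (P : Subgroup G) := inv_mem hx
    have hxi1 : x⁻¹ ≠ 1 := fun e' => hx1 (inv_eq_one.1 e')
    have hdC : (d : ℂ) ≠ 0 := Nat.cast_ne_zero.2 hd0.ne'
    have hsum : (d : ℂ) * ∑ χ : IrrCharacter G,
        (χ : G → ℂ) s * (χ : G → ℂ) s * (χ : G → ℂ) x⁻¹ / (χ : G → ℂ) 1 = (M : ℂ) := by
      rw [← Finset.sum_compl_add_sum (X ∪ Y), Finset.sum_eq_zero (s := (X ∪ Y)ᶜ) fun χ hχ => by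
          rw [Finset.mem_compl, Finset.mem_union, not_or] at hχ
          rw [D.vanish χ hχ.1 hχ.2 _ hxi hxi1, mul_zero, zero_div],
        zero_add, Finset.sum_union D.disj, ← Finset.add_sum_erase _ _ D.principal_mem,
        Finset.sum_congr (s₁ := Y) rfl (g := fun θ => ((w : ℂ) ^ 2 / d) * (θ : G → ℂ) x⁻¹) fun θ hθ => by
          rw [← hz, hYz θ hθ, CharApps.deg_eq, D.deg_Y θ hθ]; ring,
        ← Finset.mul_sum, D.sum_Y _ hxi hxi1, mul_one, principal_apply, principal_apply,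
        principal_apply]
      rw [Finset.sum_congr (s₁ := X.erase (principal G)) rfl
        (g := fun χ : IrrCharacter G => (εX χ : ℂ) * ((k χ : ℂ) * (z χ : ℂ)) / d) fun χ hχ => by
          obtain ⟨hχX, hne⟩ := hmem χ hχ
          have h1 : ((d : ℂ)) * z χ = (charDegree (χ : G → ℂ) : ℂ) * k χ := by
            exact_mod_cast hk1 χ hχX hne
          rw [← hz, D.val_X χ hχX _ hxi hxi1, CharApps.deg_eq,
            div_eq_div_iff (Nat.cast_ne_zero.2 (CharApps.deg_pos χ).ne') hdC]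
          linear_combination ((z χ : ℂ) * (εX χ : ℂ)) * h1]
      rw [hM, ← hX', ← Finset.sum_div, mul_one, div_one]
      push_cast
      field_simp
      ring
    have h2 : (N : ℂ) * d = ((p * 2 ^ b * M : ℤ) : ℂ) * d := by
      rw [h, mul_right_comm, mul_assoc, mul_comm _ (d : ℂ), hsum, D.card_G]
      push_cast; ring
    exact_mod_cast mul_right_cancel₀ hdC h2
  obtain ⟨m, hm'⟩ : ∃ m : ℕ, N = p * ((2 ^ b * c) ^ 2 * m) := by
    obtain ⟨m, hm'⟩ := sq_card_centralizer_dvd s x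
    rw [hc, ← hN] at hm'
    have h1 : p ∣ N := Int.natCast_dvd_natCast.1 ⟨2 ^ b * M, by rw [hcount]; ring⟩
    rw [hm'] at h1
    rcases hp.dvd_mul.1 h1 with h1 | ⟨l, rfl⟩
    · exact absurd (hp.dvd_of_dvd_pow h1) hpc
    · exact ⟨l, by rw [hm']; ring⟩
  have hMm : M = 2 ^ b * (c : ℤ) ^ 2 * m := by
    rw [hm'] at hcount
    refine mul_left_cancel₀ (show ((p : ℤ) * 2 ^ b) ≠ 0 by have := hp.pos; positivity) ?_
    rw [← hcount]; push_cast; ring
  -- the norm
  have hnorm : 1 + ∑ χ ∈ X', z χ ^ 2 + t * w ^ 2 ≤ 2 ^ b * (c : ℤ) := by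
    have h := second_orthogonality s s
    rw [if_pos (IsConj.refl s), hc, Finset.sum_congr rfl (g := fun χ : IrrCharacter G => ((z χ ^ 2 : ℤ) : ℂ))
      fun χ _ => by rw [← hz]; push_cast; simp [pow_two], ← Int.cast_sum] at h
    have h' : ∑ χ : IrrCharacter G, z χ ^ 2 = 2 ^ b * (c : ℤ) := by exact_mod_cast h
    rw [← h']
    refine le_trans (le_of_eq ?_) (Finset.sum_le_sum_of_subset_of_nonneg
      (Finset.subset_univ (X ∪ Y)) fun _ _ _ => sq_nonneg _)
    rw [Finset.sum_union D.disj, ← Finset.add_sum_erase _ _ D.principal_mem, hz1,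
      Finset.sum_congr (s₁ := Y) rfl fun θ hθ => by rw [hYz θ hθ], Finset.sum_const, D.card_Y,
      nsmul_eq_mul]
    ring
  -- two-power degrees
  have hvan : ∀ χ ∈ X', ∀ j, charDegree (χ : G → ℂ) = 2 ^ j → z χ = 0 := fun χ hχ j hj => by
    have h := eq_zero_of_degree_two_pow hnc hs1 hodd χ hj (D.deg_ne_one (hmem χ hχ).1 (hmem χ hχ).2)
    rw [← hz] at h
    exact_mod_cast h
  by_cases he : e = 2
  · -- `X` has two members
    subst he
    obtain ⟨χ, hχ⟩ : ∃ χ, X' = {χ} := Finset.card_eq_one.1 (by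
      rw [hX', Finset.card_erase_of_mem D.principal_mem, D.card_X])
    obtain ⟨hχX, hne⟩ := hmem χ (hχ ▸ Finset.mem_singleton_self χ)
    have h1reg : ¬ p ∣ orderOf (1 : G) := by simp [hp.ne_one]
    have h := D.rel θ₀ hθ₀ 1 h1reg
    rw [← Finset.add_sum_erase _ _ D.principal_mem, ← hX', hχ, Finset.sum_singleton, D.sign_one,
      principal_apply, CharApps.deg_eq, CharApps.deg_eq, D.deg_Y θ₀ hθ₀] at h
    have h' : (d : ℤ) = -(1 + εX χ * charDegree (χ : G → ℂ)) := by
      push_cast at h; exact_mod_cast (h.trans (by ring) : (d : ℂ) = -(1 + (εX χ : ℂ) * (charDegree (χ : G → ℂ) : ℂ)))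
    have hεχ : εX χ = -1 := (D.sign χ hχX).resolve_left fun e' => by rw [e'] at h'; omega
    rw [hεχ] at h'
    have hdeg : charDegree (χ : G → ℂ) = p - 1 := by omega
    have hpow : p - 1 ∣ 2 ^ b := by
      refine Nat.Coprime.dvd_of_dvd_mul_right ?_ (hdeg ▸ D.dvd_X χ hχX)
      rw [show p - 1 = d + 1 by omega]; simp
    obtain ⟨j, -, hj⟩ := (Nat.dvd_prime_pow Nat.prime_two).1 hpow
    have hz0 := hvan χ (hχ ▸ Finset.mem_singleton_self χ) j (hdeg.trans hj)
    rw [hχ, Finset.sum_singleton, hz0, mul_zero, sub_zero] at hwrel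
    rw [hM, hχ, Finset.sum_singleton, hz0, mul_zero, mul_zero, add_zero, hwrel] at hMm
    have hm0 : m ≠ 0 := fun e' => by rw [e'] at hMm; push_cast at hMm; omega
    have hc0 : c ≠ 0 := fun e' => hpc (by rw [e', mul_zero]; exact dvd_zero p)
    have h2 : 2 ^ b * c ^ 2 * m = d + 1 := by
      zify; linear_combination -hMm
    have h3 : 2 ^ b ≤ d + 1 := h2 ▸ (Nat.le_mul_of_pos_right _ (by positivity)).trans
      (Nat.le_mul_of_pos_right _ (Nat.pos_of_ne_zero hm0))
    omega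
  by_cases ht : t = 2
  · -- the negative characters vanish
    subst ht
    have hz0 : ∀ χ ∈ X', εX χ = -1 → z χ = 0 := fun χ hχ hε => by
      obtain ⟨j, -, hj⟩ := (Nat.dvd_prime_pow Nat.prime_two).1 D.e_dvd
      refine hvan χ hχ (j + 1) ?_
      rw [hm rfl he χ (hmem χ hχ).1 hε, pow_succ, ← hj]
      have := D.et; omega
    have hterm : ∀ χ ∈ X', 0 ≤ εX χ * (k χ * z χ) ∧ 2 * (εX χ * (k χ * z χ)) ≤ z χ ^ 2 := by
      intro χ hχ
      obtain ⟨hχX, hne⟩ := hmem χ hχ
      rcases D.deg_bounds hχX hne with ⟨hε, hle⟩ | ⟨hε, -⟩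
      · rw [hε, one_mul]
        have h1 : (d : ℤ) * z χ ^ 2 = charDegree (χ : G → ℂ) * (k χ * z χ) := by
          linear_combination z χ * hk1 χ hχX hne
        have h0 : (0 : ℤ) < charDegree (χ : G → ℂ) := by exact_mod_cast CharApps.deg_pos χ
        have h2 : 0 ≤ k χ * z χ :=
          nonneg_of_mul_nonneg_right (h1 ▸ mul_nonneg (Int.natCast_nonneg d) (sq_nonneg _)) h0
        refine ⟨h2, le_of_mul_le_mul_left ?_ (show (0 : ℤ) < d by exact_mod_cast hd0)⟩
        rw [h1]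
        have h3 : 2 * (d : ℤ) ≤ charDegree (χ : G → ℂ) := by have := D.et; omega
        have := mul_le_mul_of_nonneg_right h3 h2
        linarith
      · rw [hz0 χ hχ hε]; simp
    have hM0 : 0 < M := by
      have := Finset.sum_nonneg fun χ hχ => (hterm χ hχ).1
      have := sq_nonneg w
      rw [hM]; omega
    have hM2 : 2 * M ≤ (p : ℤ) + 2 ^ b * c := by
      have h1 := Finset.sum_le_sum fun χ hχ => (hterm χ hχ).2
      rw [← Finset.mul_sum] at h1
      have : (2 : ℤ) * d = p + 1 := by have := D.et; omega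
      push_cast at hnorm
      rw [hM]
      linarith
    have hm0 : 1 ≤ m := Nat.pos_of_ne_zero fun e' => by rw [e'] at hMm; push_cast at hMm; omega
    have hc1 : 1 ≤ c := Nat.pos_of_ne_zero fun e' => hpc (by rw [e', mul_zero]; exact dvd_zero p)
    have h1 : (2 : ℤ) ^ b * c ^ 2 * 1 ≤ M := hMm ▸
      mul_le_mul_of_nonneg_left (by exact_mod_cast hm0) (by positivity)
    have h2 : (2 : ℤ) ^ b * c * 1 ≤ 2 ^ b * c * c :=
      mul_le_mul_of_nonneg_left (by exact_mod_cast hc1) (by positivity)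
    have h3 : (2 : ℤ) ^ b * 1 ≤ 2 ^ b * c :=
      mul_le_mul_of_nonneg_left (by exact_mod_cast hc1) (by positivity)
    have h4 : ((2 : ℤ) ^ b) ≤ p := by rw [pow_two] at h1; linarith
    exact_mod_cast h4
  · -- otherwise a contradiction modulo four
    exfalso
    have h4X : ∀ χ ∈ X', 4 ∣ charDegree (χ : G → ℂ) := fun χ hχ => by
      by_contra h
      exact ht (D.degree_cases (hmem χ hχ).1 (hmem χ hχ).2 h).1
    have hS : (4 : ℤ) ∣ ∑ χ ∈ X', εX χ * (k χ * z χ) := Finset.dvd_sum fun χ hχ =>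
      dvd_mul_of_dvd_right (hk4 χ (hmem χ hχ).1 (hmem χ hχ).2 (h4X χ hχ)) _
    have hw2 : (4 : ℤ) ∣ w ^ 2 - 1 := by
      obtain ⟨r, hr⟩ : (2 : ℤ) ∣ ∑ χ ∈ X', εX χ * z χ := Finset.dvd_sum fun χ hχ =>
        dvd_mul_of_dvd_right (by
          simpa using hdiv χ (hmem χ hχ).1 (hmem χ hχ).2 1
            (by rw [pow_one]; exact D.even_X χ (hmem χ hχ).1 (hmem χ hχ).2)) _
      exact ⟨r + r ^ 2, by rw [hwrel, hr]; ring⟩
    obtain ⟨i, -, hi⟩ := (Nat.dvd_prime_pow Nat.prime_two).1 D.e_dvd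
    have h4e : 4 ∣ e := by
      rw [hi]
      refine (pow_dvd_pow 2 (?_ : 2 ≤ i) : 2 ^ 2 ∣ 2 ^ i)
      by_contra! hlt
      rcases (show i = 0 ∨ i = 1 by omega) with rfl | rfl <;> simp at hi <;> omega
    have h4b : (4 : ℤ) ∣ M := by
      rw [hMm]
      refine dvd_mul_of_dvd_left (dvd_mul_of_dvd_left ?_ _) _
      exact_mod_cast h4e.trans D.e_dvd
    have h4d : (4 : ℤ) ∣ d - 1 := by
      have h5 : 4 ∣ e * t := h4e.mul_right t
      have := D.et
      omega
    have h6 := ((h4b.sub hS).sub hw2).sub h4d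
    rw [hM] at h6
    ring_nf at h6
    omega

end CfsgLib.BrauerTuan
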